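import Cfsg.Agent.H883.C7.NIface
import Cfsg.Agent.H734.C7.OpA
import Cfsg.Agent.H883.C7.LIface
set_option linter.all false

-- part: H69/C7/Alt
section
/-!
# Vector valued bilinear forms vanishing on singular vectors
-/

set_option autoImplicit false
set_option linter.unusedSectionVars false

namespace Cfsg.Agent.H69.C7

open QuadraticMap hiding proj
open Cfsg.Agent.LieClassical.OrthCore Cfsg.Agent.LieClassical.OrthTrans
open Cfsg.Agent.H882.Ten Cfsg.Agent.LieClassical.OrthFinite Cfsg.Agent.H883.C7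

variable {F : Type*} {V : Type*} {X : Type*} [Field F] [AddCommGroup V] [Module F V] [AddCommGroup X] [Module F X]
  {q : QuadraticForm F V}

/-- Every vector of `⟨u, u'⟩^⊥` is a difference or sum of nonsingular vectors. -/
theorem exists_nonsing_add (h2 : (2 : F) ≠ 0) {y z : V} (hz : q z ≠ 0) (hy : q y = 0) :
    q (y + z) ≠ 0 ∨ q (y - z) ≠ 0 := by
  by_contra hcon
  push Not at hcon
  obtain ⟨h3, h4⟩ := hcon
  rw [Q_add, hy] at h3
  rw [sub_eq_add_neg, Q_add, hy, QuadraticMap.map_neg, polar_neg_right] at h4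
  have : 2 * q z = 0 := by linear_combination h3 + h4
  exact mul_ne_zero h2 hz this

/-- A nonsingular vector orthogonal to a hyperbolic pair and a nonsingular vector. -/
theorem exists_nonsing_perp3 (h2 : (2 : F) ≠ 0) (hq : Nondeg q) (hd : 4 ≤ Module.finrank F V) {u u' y : V}
    (hyp : Hyp q u u') (hy : polar q u y = 0) (hy' : polar q u' y = 0) (hqy : q y ≠ 0) :
    ∃ z, polar q u z = 0 ∧ polar q u' z = 0 ∧ polar q y z = 0 ∧ q z ≠ 0 := by
  obtain ⟨a, ha0, ha⟩ := exists_perp_ne (Q := q) ![u, u', y] (by omega)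
  have a1 : polar q u a = 0 := ha 0
  have a2 : polar q u' a = 0 := ha 1
  have a3 : polar q y a = 0 := ha 2
  obtain ⟨c0, hc0⟩ := hq.exists_polar_eq ha0 1
  have hyy : polar q y y ≠ 0 := by rw [polar_self']; exact mul_ne_zero h2 hqy
  set c1 := proj q u u' c0 with hc1
  have e1 : polar q u c1 = 0 := polar_proj_left hyp c0
  have e2 : polar q u' c1 = 0 := polar_proj_right hyp c0
  have e3 : polar q a c1 = 1 := by
    rw [hc1, polar_proj_of_perp a1 a2, hc0]
  set c := c1 - ((polar q y y)⁻¹ * polar q y c1) • y with hc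
  have f1 : polar q u c = 0 := by rw [hc, polar_sub_right, polar_smul_right, e1, hy]; simp
  have f2 : polar q u' c = 0 := by rw [hc, polar_sub_right, polar_smul_right, e2, hy']; simp
  have f3 : polar q y c = 0 := by
    rw [hc, polar_sub_right, polar_smul_right, smul_eq_mul]
    field_simp
    ring
  have f4 : polar q a c = 1 := by
    rw [hc, polar_sub_right, polar_smul_right, e3, polar_comm q a y, a3]; simp
  rcases exists_nonsing f4 with h | h | h
  · exact ⟨a, a1, a2, a3, h⟩
  · exact ⟨c, f1, f2, f3, h⟩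
  · exact ⟨a + c, by rw [polar_add_right, a1, f1, add_zero], by rw [polar_add_right, a2, f2, add_zero],
      by rw [polar_add_right, a3, f3, add_zero], h⟩

/-- first step -/
theorem gam_step (h2 : (2 : F) ≠ 0) {u u' : V} (hyp : Hyp q u u') (γ : V →ₗ[F] V →ₗ[F] X)
    (hs : ∀ x y, γ x y = γ y x) (h0 : ∀ v, q v = 0 → γ v v = 0) {y : V} (hy : polar q u y = 0)
    (hy' : polar q u' y = 0) : γ u' y = q y • γ u y ∧ γ y y = (2 * q y) • γ u u' := by
  have v1 : q (u' + y - q y • u) = 0 := sing_vec hyp.symm hy' hy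
  have v2 : q (u' + (-y) - q (-y) • u) = 0 :=
    sing_vec hyp.symm (by rw [polar_neg_right, hy', neg_zero]) (by rw [polar_neg_right, hy, neg_zero])
  have k1 := h0 _ v1
  have k2 := h0 _ v2
  rw [QuadraticMap.map_neg] at k2
  simp only [map_add, map_sub, map_neg, map_smul, LinearMap.add_apply, LinearMap.sub_apply, LinearMap.neg_apply,
    LinearMap.smul_apply, h0 u hyp.left, h0 u' hyp.right, hs y u, hs y u', hs u' u] at k1 k2
  have h4 : (4 : F) ≠ 0 := by
    have : (4 : F) = 2 * 2 := by norm_num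
    rw [this]; exact mul_ne_zero h2 h2
  constructor
  · have : (4 : F) • (γ u' y - q y • γ u y) = 0 := by
      linear_combination (norm := module) k1 - k2
    exact sub_eq_zero.1 ((smul_eq_zero.1 this).resolve_left h4)
  · have : (2 : F) • (γ y y - (2 * q y) • γ u u') = 0 := by
      linear_combination (norm := module) k1 + k2
    exact sub_eq_zero.1 ((smul_eq_zero.1 this).resolve_left h2)

theorem gam_zero (h2 : (2 : F) ≠ 0) (hq : Nondeg q)
    (hF : 4 ≤ Module.finrank F V ∨ ∃ c : F, c ≠ 0 ∧ c * c ≠ 1)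
    {u u' : V} (hyp : Hyp q u u') (γ : V →ₗ[F] V →ₗ[F] X)
    (hs : ∀ x y, γ x y = γ y x) (h0 : ∀ v, q v = 0 → γ v v = 0) {y : V} (hy : polar q u y = 0)
    (hy' : polar q u' y = 0) : γ u' y = 0 := by
  rcases hF with hF | ⟨c, hc0, hc1⟩
  · have key : ∀ y, polar q u y = 0 → polar q u' y = 0 → q y ≠ 0 → γ u y = 0 := by
      intro y hy hy' hqy
      obtain ⟨z, hz, hz', hyz, hqz⟩ := exists_nonsing_perp3 h2 hq hF hyp hy hy' hqy
      have a1 := (gam_step h2 hyp γ hs h0 hy hy').1
      have a2 := (gam_step h2 hyp γ hs h0 hz hz').1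
      have a3 := (gam_step h2 hyp γ hs h0 (y := y + z) (by rw [polar_add_right, hy, hz, add_zero])
        (by rw [polar_add_right, hy', hz', add_zero])).1
      have a4 := (gam_step h2 hyp γ hs h0 (y := y - z) (by rw [polar_sub_right, hy, hz, sub_zero])
        (by rw [polar_sub_right, hy', hz', sub_zero])).1
      rw [Q_add, hyz, add_zero] at a3
      rw [sub_eq_add_neg, Q_add, polar_neg_right, hyz, neg_zero, add_zero, QuadraticMap.map_neg,
        ← sub_eq_add_neg] at a4
      rw [map_add, map_add, a1, a2] at a3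
      rw [map_sub, map_sub, a1, a2] at a4
      have : (2 * q z) • γ u y = 0 := by
        linear_combination (norm := module) -a3 - a4
      exact (smul_eq_zero.1 this).resolve_left (mul_ne_zero h2 hqz)
    rw [(gam_step h2 hyp γ hs h0 hy hy').1]
    by_cases hqy : q y = 0
    · rw [hqy, zero_smul]
    · rw [key y hy hy' hqy, smul_zero]
  · have a1 := (gam_step h2 hyp γ hs h0 hy hy').1
    have a2 := (gam_step h2 hyp γ hs h0 (y := c • y) (by rw [polar_smul_right, hy, smul_zero])
      (by rw [polar_smul_right, hy', smul_zero])).1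
    rw [QuadraticMap.map_smul, map_smul, map_smul, smul_eq_mul] at a2
    have : (c * (1 - c * c)) • γ u' y = 0 := by
      have e : (c * (1 - c * c)) • γ u' y = c • γ u' y - (c * c * c) • γ u' y := by module
      rw [e, a2]
      rw [a1]
      module
    refine (smul_eq_zero.1 this).resolve_left (mul_ne_zero hc0 ?_)
    intro h
    exact hc1 (sub_eq_zero.1 h).symm

theorem expand_hyp {u u' : V} (x : V) : x = polar q u' x • u + polar q u x • u' + proj q u u' x := by
  rw [LieClassical.OrthTrans.proj]; module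

/-- A symmetric vector valued form vanishing on singular vectors is a multiple of the polar form. -/
theorem gam_eq (h2 : (2 : F) ≠ 0) (hq : Nondeg q)
    (hF : 4 ≤ Module.finrank F V ∨ ∃ c : F, c ≠ 0 ∧ c * c ≠ 1)
    {u u' : V} (hyp : Hyp q u u') (γ : V →ₗ[F] V →ₗ[F] X)
    (hs : ∀ x y, γ x y = γ y x) (h0 : ∀ v, q v = 0 → γ v v = 0) (x y : V) : γ x y = polar q x y • γ u u' := by
  set x1 := proj q u u' x with hx1
  set y1 := proj q u u' y with hy1
  have p1 : polar q u x1 = 0 := polar_proj_left hyp x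
  have p2 : polar q u' x1 = 0 := polar_proj_right hyp x
  have p3 : polar q u y1 = 0 := polar_proj_left hyp y
  have p4 : polar q u' y1 = 0 := polar_proj_right hyp y
  have k1 := gam_zero h2 hq hF hyp γ hs h0 p1 p2
  have k2 := gam_zero h2 hq hF hyp γ hs h0 p3 p4
  have k3 := gam_zero h2 hq hF hyp.symm γ hs h0 p2 p1
  have k4 := gam_zero h2 hq hF hyp.symm γ hs h0 p4 p3
  have k5 : γ x1 y1 = polar q x1 y1 • γ u u' := by
    have a1 := (gam_step h2 hyp γ hs h0 p1 p2).2
    have a2 := (gam_step h2 hyp γ hs h0 p3 p4).2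
    have a3 := (gam_step h2 hyp γ hs h0 (y := x1 + y1) (by rw [polar_add_right, p1, p3, add_zero])
      (by rw [polar_add_right, p2, p4, add_zero])).2
    rw [Q_add, map_add, map_add, LinearMap.add_apply, LinearMap.add_apply, a1, a2, hs y1 x1] at a3
    have : (2 : F) • (γ x1 y1 - polar q x1 y1 • γ u u') = 0 := by
      linear_combination (norm := module) a3
    exact sub_eq_zero.1 ((smul_eq_zero.1 this).resolve_left h2)
  have ex := expand_hyp (q := q) (u := u) (u' := u') x
  have ey := expand_hyp (q := q) (u := u) (u' := u') y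
  rw [← hx1] at ex
  rw [← hy1] at ey
  have k6 : polar q x y = polar q u' x * polar q u y + polar q u x * polar q u' y + polar q x1 y1 := by
    conv_lhs => rw [ex, ey]
    simp only [polar_add_left, polar_add_right, polar_smul_left, polar_smul_right, smul_eq_mul, hyp.polar_left,
      hyp.polar_right, hyp.pair, hyp.pair', p1, p2, p3, p4, polar_comm q x1 u, polar_comm q x1 u']
    ring
  rw [k6]
  conv_lhs => rw [ex, ey]
  simp only [map_add, map_smul, LinearMap.add_apply, LinearMap.smul_apply, k1, k2, k3, k4, k5, hs x1 u, hs x1 u',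
    h0 u hyp.left, h0 u' hyp.right, hs u' u]
  module

/-- An alternating form with `β y u = 0` for all singular `u` and nonsingular `y ⊥ u` is zero. -/
theorem alt_zero (h2 : (2 : F) ≠ 0) (hq : Nondeg q) (hd : 3 ≤ Module.finrank F V)
    {u u' : V} (hyp : Hyp q u u') (β : V →ₗ[F] V →ₗ[F] X) (hs : ∀ x y, β x y = -β y x)
    (h0 : ∀ u y, q u = 0 → u ≠ 0 → polar q u y = 0 → q y ≠ 0 → β y u = 0) : β = 0 := by
  have hself : ∀ x, β x x = 0 := by
    intro x
    have h1 := hs x x
    have h3 : (2 : F) • β x x = 0 := by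
      linear_combination (norm := module) h1
    exact (smul_eq_zero.1 h3).resolve_left h2
  have key : ∀ u y, q u = 0 → u ≠ 0 → polar q u y = 0 → β y u = 0 := by
    intro u y hu hu0 hy
    by_cases hqy : q y = 0
    · obtain ⟨u', hyp⟩ := LieClassical.OrthTrans.exists_hyp hq hu hu0
      obtain ⟨z, hz1, hz2, hz3⟩ := exists_nonsing_perp hq hd hyp
      rcases exists_nonsing_add h2 hz3 hqy with h | h
      · have a1 := h0 u _ hu hu0 (by rw [polar_add_right, hy, hz1, add_zero]) h
        have a2 := h0 u z hu hu0 hz1 hz3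
        rw [map_add, LinearMap.add_apply, a2, add_zero] at a1
        exact a1
      · have a1 := h0 u _ hu hu0 (by rw [polar_sub_right, hy, hz1, sub_zero]) h
        have a2 := h0 u z hu hu0 hz1 hz3
        rw [map_sub, LinearMap.sub_apply, a2, sub_zero] at a1
        exact a1
    · exact h0 u y hu hu0 hy hqy
  have key2 : ∀ y y', polar q u y = 0 → polar q u' y = 0 → polar q u y' = 0 → polar q u' y' = 0 →
      β y' y = polar q y' y • β u u' := by
    intro y y' hy hy' hz hz'
    have v1 : q (u' + y - q y • u) = 0 := sing_vec hyp.symm hy' hy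
    have v0 : u' + y - q y • u ≠ 0 := by
      intro h
      have h1 := congrArg (polar q u) h
      rw [polar_sub_right, polar_add_right, polar_smul_right, hyp.pair, hy, hyp.polar_left, polar_zero_right] at h1
      simp at h1
    have v2 : polar q (u' + y - q y • u) (y' - polar q y' y • u) = 0 := by
      simp only [polar_add_left, polar_sub_left, polar_sub_right, polar_smul_left, polar_smul_right, smul_eq_mul,
        hyp.polar_left, hyp.pair', hz, hz', hy, polar_comm q y u, polar_comm q y y']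
      ring
    have h1 := key _ _ v1 v0 v2
    have b1 := key u' y' hyp.right hyp.right_ne hz'
    have b2 := key u y' hyp.left hyp.left_ne hz
    have b3 : β u y = 0 := by rw [hs, key u y hyp.left hyp.left_ne hy, neg_zero]
    simp only [map_add, map_sub, map_smul, LinearMap.sub_apply, LinearMap.smul_apply,
      b1, b2, b3, hself u] at h1
    linear_combination (norm := module) h1
  obtain ⟨z, hz1, hz2, hz3⟩ := exists_nonsing_perp hq hd hyp
  have huu : β u u' = 0 := by
    have h1 := key2 z z hz1 hz2 hz1 hz2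
    rw [hself, polar_self'] at h1
    exact (smul_eq_zero.1 h1.symm).resolve_left (mul_ne_zero h2 hz3)
  refine LinearMap.ext fun x => LinearMap.ext fun y => ?_
  set x1 := proj q u u' x with hx1
  set y1 := proj q u u' y with hy1
  have p1 : polar q u x1 = 0 := polar_proj_left hyp x
  have p2 : polar q u' x1 = 0 := polar_proj_right hyp x
  have p3 : polar q u y1 = 0 := polar_proj_left hyp y
  have p4 : polar q u' y1 = 0 := polar_proj_right hyp y
  have ex := expand_hyp (q := q) (u := u) (u' := u') x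
  have ey := expand_hyp (q := q) (u := u) (u' := u') y
  rw [← hx1] at ex
  rw [← hy1] at ey
  rw [ex, ey]
  have e1 : β u' u = 0 := by rw [hs, huu, neg_zero]
  have e2 : β x1 u = 0 := key _ _ hyp.left hyp.left_ne p1
  have e3 : β x1 u' = 0 := key _ _ hyp.right hyp.right_ne p2
  have e4 : β u y1 = 0 := by rw [hs, key _ _ hyp.left hyp.left_ne p3, neg_zero]
  have e5 : β u' y1 = 0 := by rw [hs, key _ _ hyp.right hyp.right_ne p4, neg_zero]
  have e6 : β x1 y1 = 0 := by rw [key2 _ _ p3 p4 p1 p2, huu, smul_zero]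
  simp only [map_add, map_smul, LinearMap.add_apply, LinearMap.smul_apply, hself, huu, e1, e2, e3, e4, e5, e6,
    LinearMap.zero_apply, smul_zero, add_zero]

end Cfsg.Agent.H69.C7
end

-- part: H69/C7/Slot
section
/-!
# Operators on the tensor power seen from one slot
-/

set_option autoImplicit false
set_option linter.unusedSectionVars false

namespace Cfsg.Agent.H69.C7

open QuadraticMap hiding proj
open Cfsg.Agent.LieClassical.OrthCore Cfsg.Agent.LieClassical.OrthTrans
open Cfsg.Agent.H882.Ten Cfsg.Agent.LieClassical.OrthFinite Cfsg.Agent.H883.C7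

variable {F : Type*} [Field F] {κ : Type*} [Fintype κ] [DecidableEq κ] {ι : Type*} [Fintype ι] [DecidableEq ι]
  {q : QuadraticForm F (κ → F)}

/-- `X ⊗ f` with `f` in slot `i`. -/
noncomputable def bt (i : ι) (X : Module.End F (({j // j ≠ i} → κ) → F)) (f : Module.End F (κ → F)) :
    Module.End F ((ι → κ) → F) := (isTen F κ i).map (isTen F κ i) X f

theorem bt_ten (i : ι) (X : Module.End F (({j // j ≠ i} → κ) → F)) (f : Module.End F (κ → F))
    (a : ({j // j ≠ i} → κ) → F) (u : κ → F) : bt i X f (ten F κ i a u) = ten F κ i (X a) (f u) := by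
  rw [bt, IsTensorProduct.map_eq]

/-- `bt` as an additive map in the first variable -/
noncomputable def btA (i : ι) (f : Module.End F (κ → F)) :
    Module.End F (({j // j ≠ i} → κ) → F) →ₗ[F] Module.End F ((ι → κ) → F) where
  toFun X := bt i X f
  map_add' X Y := ext_t (isTen F κ i) fun a u => by
    rw [bt_ten, LinearMap.add_apply, LinearMap.add_apply, bt_ten, bt_ten, map_add, LinearMap.add_apply]
  map_smul' c X := ext_t (isTen F κ i) fun a u => by
    rw [RingHom.id_apply, bt_ten, LinearMap.smul_apply, LinearMap.smul_apply, bt_ten, map_smul, LinearMap.smul_apply]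

theorem btA_apply (i : ι) (f : Module.End F (κ → F)) (X : Module.End F (({j // j ≠ i} → κ) → F)) :
    btA i f X = bt i X f := rfl

theorem bt_op (i : ι) (c : {j // j ≠ i} → Module.End F (κ → F)) (f : Module.End F (κ → F)) :
    bt i (op c) f = op (ins i c f) := by
  refine ext_t (isTen F κ i) fun a u => ?_
  rw [bt_ten, op_ten, ins_same]
  congr 3
  exact congrArg op (funext fun j => (ins_sub i c f j).symm)

theorem slE_inv_ten (i : ι) (g : (κ → F) ≃ₗ[F] (κ → F)) (a : ({j // j ≠ i} → κ) → F) (u : κ → F) :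
    (slE i g)⁻¹ (ten F κ i a u) = ten F κ i a (g⁻¹ u) := by rw [← map_inv, slE_ten]

theorem slE_sub_inv_ten (i : ι) (j : {j // j ≠ i}) (g : (κ → F) ≃ₗ[F] (κ → F)) (a : ({j // j ≠ i} → κ) → F)
    (u : κ → F) : (slE (j : ι) g)⁻¹ (ten F κ i a u) = ten F κ i ((slE j g)⁻¹ a) u := by
  rw [← map_inv, ← map_inv, slE_sub_ten]

theorem bt_cj (i : ι) (j : {j // j ≠ i}) (g : (κ → F) ≃ₗ[F] (κ → F))
    (X : Module.End F (({j // j ≠ i} → κ) → F)) (f : Module.End F (κ → F)) :
    bt i (cj (slE j g) X) f = cj (slE (j : ι) g) (bt i X f) := by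
  refine ext_t (isTen F κ i) fun a u => ?_
  rw [bt_ten, cj_apply, cj_apply, slE_sub_inv_ten, bt_ten, slE_sub_ten]

/-- The matrix coefficients of `T` with respect to slot `i`. -/
noncomputable def tau (q : QuadraticForm F (κ → F)) (i : ι) (T : Module.End F ((ι → κ) → F)) :
    (κ → F) →ₗ[F] (κ → F) →ₗ[F] Module.End F (({j // j ≠ i} → κ) → F) :=
  LinearMap.mk₂ F (fun x y => cW (isTen F κ i) (polarBilin q x) ∘ₗ T ∘ₗ (ten F κ i).flip y)
    (fun x x' y => by
      refine LinearMap.ext fun a => ?_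
      simp only [LinearMap.comp_apply, LinearMap.add_apply]
      generalize T ((ten F κ i).flip y a) = v
      have : cW (isTen F κ i) (polarBilin q (x + x')) =
          cW (isTen F κ i) (polarBilin q x) + cW (isTen F κ i) (polarBilin q x') :=
        ext_t (isTen F κ i) fun b z => by
          rw [LinearMap.add_apply, cW_apply, cW_apply, cW_apply, map_add, LinearMap.add_apply, add_smul]
      rw [this, LinearMap.add_apply])
    (fun c x y => by
      refine LinearMap.ext fun a => ?_
      simp only [LinearMap.comp_apply, LinearMap.smul_apply]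
      generalize T ((ten F κ i).flip y a) = v
      have : cW (isTen F κ i) (polarBilin q (c • x)) = c • cW (isTen F κ i) (polarBilin q x) :=
        ext_t (isTen F κ i) fun b z => by
          rw [LinearMap.smul_apply, cW_apply, cW_apply, map_smul, LinearMap.smul_apply, smul_eq_mul, smul_smul]
      rw [this, LinearMap.smul_apply])
    (fun x y y' => by
      refine LinearMap.ext fun a => ?_
      simp only [LinearMap.comp_apply, LinearMap.add_apply, map_add])
    (fun c x y => by
      refine LinearMap.ext fun a => ?_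
      simp only [LinearMap.comp_apply, LinearMap.smul_apply, map_smul])

theorem tau_apply (i : ι) (T : Module.End F ((ι → κ) → F)) (x y : κ → F) (a : ({j // j ≠ i} → κ) → F) :
    tau q i T x y a = cW (isTen F κ i) (polarBilin q x) (T (ten F κ i a y)) := rfl

theorem cW_ten (i : ι) (x : κ → F) (a : ({j // j ≠ i} → κ) → F) (y : κ → F) :
    cW (isTen F κ i) (polarBilin q x) (ten F κ i a y) = polar q x y • a := by
  rw [cW_apply, polarBilin_apply_apply]

theorem tau_add (i : ι) (T T' : Module.End F ((ι → κ) → F)) (x y : κ → F) :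
    tau q i (T + T') x y = tau q i T x y + tau q i T' x y := by
  refine LinearMap.ext fun a => ?_
  rw [LinearMap.add_apply, tau_apply, tau_apply, tau_apply, LinearMap.add_apply, map_add]

theorem tau_sub (i : ι) (T T' : Module.End F ((ι → κ) → F)) (x y : κ → F) :
    tau q i (T - T') x y = tau q i T x y - tau q i T' x y := by
  refine LinearMap.ext fun a => ?_
  rw [LinearMap.sub_apply, tau_apply, tau_apply, tau_apply, LinearMap.sub_apply, map_sub]

theorem tau_smul (i : ι) (c : F) (T : Module.End F ((ι → κ) → F)) (x y : κ → F) :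
    tau q i (c • T) x y = c • tau q i T x y := by
  refine LinearMap.ext fun a => ?_
  rw [LinearMap.smul_apply, tau_apply, tau_apply, LinearMap.smul_apply, map_smul]

theorem tau_bt (i : ι) (X : Module.End F (({j // j ≠ i} → κ) → F)) (f : Module.End F (κ → F)) (x y : κ → F) :
    tau q i (bt i X f) x y = polar q x (f y) • X := by
  refine LinearMap.ext fun a => ?_
  rw [tau_apply, bt_ten, cW_ten, LinearMap.smul_apply]

theorem tau_mul_sl (i : ι) (T : Module.End F ((ι → κ) → F)) (f : Module.End F (κ → F)) (x y : κ → F) :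
    tau q i (T * sl i f) x y = tau q i T x (f y) := by
  refine LinearMap.ext fun a => ?_
  rw [tau_apply, tau_apply, Module.End.mul_apply, sl_ten]

/-- `f'` adjoint to `f` -/
theorem tau_sl_mul (i : ι) (T : Module.End F ((ι → κ) → F)) {f f' : Module.End F (κ → F)}
    (h : ∀ x y, polar q x (f y) = polar q (f' x) y) (x y : κ → F) :
    tau q i (sl i f * T) x y = tau q i T (f' x) y := by
  refine LinearMap.ext fun a => ?_
  rw [tau_apply, tau_apply, Module.End.mul_apply]
  generalize T (ten F κ i a y) = v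
  have : cW (isTen F κ i) (polarBilin q x) ∘ₗ sl i f = cW (isTen F κ i) (polarBilin q (f' x)) :=
    ext_t (isTen F κ i) fun b z => by
      rw [LinearMap.comp_apply, sl_ten, cW_ten, cW_ten, h]
  exact LinearMap.congr_fun this v

theorem tau_cj (i : ι) (T : Module.End F ((ι → κ) → F)) {g : (κ → F) ≃ₗ[F] (κ → F)} (hg : g ∈ O q)
    (x y : κ → F) : tau q i (cj (slE i g) T) x y = tau q i T (g⁻¹ x) (g⁻¹ y) := by
  refine LinearMap.ext fun a => ?_
  rw [tau_apply, tau_apply, cj_apply, slE_inv_ten]
  generalize T (ten F κ i a (g⁻¹ y)) = v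
  have : cW (isTen F κ i) (polarBilin q x) ∘ₗ ((slE i g : ((ι → κ) → F) ≃ₗ[F] ((ι → κ) → F)) :
      Module.End F ((ι → κ) → F)) = cW (isTen F κ i) (polarBilin q (g⁻¹ x)) :=
    ext_t (isTen F κ i) fun b z => by
      rw [LinearMap.comp_apply, LinearEquiv.coe_coe, slE_ten, cW_ten, cW_ten, ← polar_map hg (g⁻¹ x) z]
      have : g (g⁻¹ x) = x := LinearEquiv.apply_symm_apply g x
      rw [this]
  exact LinearMap.congr_fun this v

theorem ext_tau (h2 : (2 : F) ≠ 0) (hq : Nondeg q) (i : ι) {T T' : Module.End F ((ι → κ) → F)}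
    (h : ∀ x y, tau q i T x y = tau q i T' x y) : T = T' := by
  have S := tst (ι := ι) h2 hq i
  refine ext_t (isTen F κ i) fun a y => ?_
  rw [← sub_eq_zero]
  have h1 : ∀ x, S.cw x (T (ten F κ i a y) - T' (ten F κ i a y)) = 0 := by
    intro x
    have h3 := LinearMap.congr_fun (h x y) a
    rw [map_sub, sub_eq_zero]
    exact h3
  refine nondeg_QT h2 hq _ fun v => ?_
  induction v using (isTen F κ i).inductionOn with
  | zero => exact polar_zero_right _ _
  | tmul b z => rw [S.polar_cw, h1, polar_zero_left]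
  | add x y hx hy => rw [polar_add_right, hx, hy, add_zero]

end Cfsg.Agent.H69.C7
end

-- part: H69/C7/Step
section
/-!
# One slot of a non-zero operator can be made pure
-/

set_option autoImplicit false
set_option linter.unusedSectionVars false

namespace Cfsg.Agent.H69.C7

open QuadraticMap hiding proj
open Cfsg.Agent.LieClassical.OrthCore Cfsg.Agent.LieClassical.OrthTrans
open Cfsg.Agent.H882.Ten Cfsg.Agent.LieClassical.OrthFinite Cfsg.Agent.H883.C7

variable {F : Type*} [Field F] {κ : Type*} [Fintype κ] [DecidableEq κ] {ι : Type*} [Fintype ι] [DecidableEq ι]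
  {q : QuadraticForm F (κ → F)}

theorem hyp7_alt [Finite F] (H : Hyp7 q) : 4 ≤ Module.finrank F (κ → F) ∨ ∃ c : F, c ≠ 0 ∧ c * c ≠ 1 := by
  rw [Module.finrank_fintype_fun_eq_card]
  rcases Nat.lt_or_ge 3 (Fintype.card κ) with h | h
  · exact Or.inl h
  · exact Or.inr (exists_sq_ne (H.five (le_antisymm h H.three)))

theorem om_adj (q : QuadraticForm F (κ → F)) (u x y : κ → F) :
    polar q x (om q u y) = polar q (om q u x) y := by
  rw [om_apply, om_apply, polar_smul_right, polar_smul_left, smul_eq_mul, smul_eq_mul, polar_comm q x u,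
    mul_comm]

theorem nn_adj (q : QuadraticForm F (κ → F)) (u z x y : κ → F) :
    polar q x (nn q u z y) = polar q ((-nn q u z) x) y := by
  rw [LinearMap.neg_apply, nn_apply, nn_apply, polar_sub_right, polar_smul_right, polar_smul_right, polar_neg_left,
    polar_sub_left, polar_smul_left, polar_smul_left, polar_comm q x z, polar_comm q x u]
  simp only [smul_eq_mul]
  ring

/-- `ω T ω = T_(u,u) ⊗ ω` -/
theorem om_mul_mul_om (h2 : (2 : F) ≠ 0) (hq : Nondeg q) (i : ι) (T : Module.End F ((ι → κ) → F)) (u : κ → F) :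
    sl i (om q u) * T * sl i (om q u) = bt i (tau q i T u u) (om q u) := by
  refine ext_tau h2 hq i fun x y => ?_
  rw [tau_bt, tau_mul_sl, tau_sl_mul i T (om_adj q u), om_apply, om_apply, polar_smul_right]
  simp only [map_smul, LinearMap.smul_apply, smul_eq_mul]
  rw [polar_comm q x u]
  module

theorem tau_T1 (i : ι) (T : Module.End F ((ι → κ) → F)) (u y a b : κ → F) :
    tau q i ((2 : F) • (sl i (nn q u y) * T * sl i (nn q u y) + q y • (sl i (om q u) * T + T * sl i (om q u))))
      a b = (2 : F) • (-tau q i T (nn q u y a) (nn q u y b) +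
        q y • (tau q i T (om q u a) b + tau q i T a (om q u b))) := by
  rw [tau_smul, tau_add, tau_smul, tau_add, tau_mul_sl, tau_mul_sl, tau_sl_mul i T (om_adj q u),
    tau_sl_mul i T (nn_adj q u y)]
  rw [LinearMap.neg_apply, map_neg, LinearMap.neg_apply]

/-- A hyperbolic partner orthogonal to a nonsingular vector. -/
theorem exists_partner_perp (h2 : (2 : F) ≠ 0) {V : Type*} [AddCommGroup V] [Module F V] {Q : QuadraticForm F V}
    (hQ : Nondeg Q) {u y : V} (hu : Q u = 0) (hu0 : u ≠ 0) (huy : polar Q u y = 0) (hy : Q y ≠ 0) :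
    ∃ u', Hyp Q u u' ∧ polar Q u' y = 0 := by
  obtain ⟨u1, hyp⟩ := LieClassical.OrthTrans.exists_hyp hQ hu hu0
  have hyy : polar Q y y ≠ 0 := by rw [polar_self']; exact mul_ne_zero h2 hy
  set v := u1 - ((polar Q y y)⁻¹ * polar Q y u1) • y with hv
  have h1 : polar Q u v = 1 := by
    rw [hv, polar_sub_right, polar_smul_right, hyp.pair, huy]; simp
  have h3 : polar Q y v = 0 := by
    rw [hv, polar_sub_right, polar_smul_right, smul_eq_mul]
    field_simp
    ring
  refine ⟨v + (-Q v) • u, ⟨hu, ?_, ?_⟩, ?_⟩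
  · rw [Q_add, QuadraticMap.map_smul, hu, polar_smul_right, polar_comm Q v u, h1]
    simp
  · rw [polar_add_right, polar_smul_right, polar_self_of_sing hu, h1]
    simp
  · rw [polar_add_left, polar_smul_left, polar_comm Q v y, h3, huy]
    simp

/-- **One slot.** -/
theorem step [Finite F] (H : Hyp7 q) (l : ι) (Z : AddSubgroup (Module.End F ((ι → κ) → F)))
    (hZ : ∀ (u z : κ → F) (hu : q u = 0) (hz : polar q u z = 0), ∀ T ∈ Z, cj (slE l (siegel q u z hu hz)) T ∈ Z)
    (hR : 4 ≤ Fintype.card κ → ∀ (y : κ → F) (hy : q y ≠ 0), (∃ u, u ≠ 0 ∧ q u = 0 ∧ polar q u y = 0) → ∀ T ∈ Z,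
      cj (slE l (refl q y hy)) T ∈ Z) {u0 : κ → F} (hu0 : q u0 = 0) (hu0' : u0 ≠ 0)
    {T : Module.End F ((ι → κ) → F)} (hT : T ∈ Z) (hT0 : T ≠ 0) :
    ∃ (T1 : Module.End F (({j // j ≠ l} → κ) → F)) (c : Module.End F (κ → F)), T1 ≠ 0 ∧
      (c = 1 ∨ IsOm q c ∨ IsNn q c) ∧ bt l T1 c ∈ Z := by
  have h2 := H.two
  have hq := H.nd
  have hd : 3 ≤ Module.finrank F (κ → F) := by
    rw [Module.finrank_fintype_fun_eq_card]; exact H.three
  by_cases hsing : ∃ u, u ≠ 0 ∧ q u = 0 ∧ tau q l T u u ≠ 0
  · obtain ⟨u, hu0, hu, hne⟩ := hsing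
    obtain ⟨r, hr, hA⟩ := H734.C7.opA H hu hu0 (ι := ι)
    have h1 := hA l Z (fun y hy T hT => hZ u y hu hy T hT) T hT
    rw [om_mul_mul_om h2 hq, ← btA_apply, ← map_smul, btA_apply] at h1
    exact ⟨_, om q u, smul_ne_zero hr hne, Or.inr (Or.inl ⟨u, hu0, hu, rfl⟩), h1⟩
  push Not at hsing
  obtain ⟨u0', hyp0⟩ := LieClassical.OrthTrans.exists_hyp hq hu0 hu0'
  set γ : (κ → F) →ₗ[F] (κ → F) →ₗ[F] Module.End F (({j // j ≠ l} → κ) → F) := tau q l T + (tau q l T).flip with hγ
  have hγa : ∀ x y, γ x y = tau q l T x y + tau q l T y x := fun x y => rfl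
  have hγs : ∀ v, q v = 0 → γ v v = 0 := by
    intro v hv
    by_cases hv0 : v = 0
    · rw [hv0, map_zero]
    · rw [hγa, hsing v hv0 hv, add_zero]
  have hγe := gam_eq h2 hq (hyp7_alt H) hyp0 γ (fun x y => by rw [hγa, hγa, add_comm]) hγs
  set T0 := (2 : F)⁻¹ • γ u0 u0' with hT0'
  -- the alternating part
  set β : (κ → F) →ₗ[F] (κ → F) →ₗ[F] Module.End F (({j // j ≠ l} → κ) → F) :=
    tau q l (T - bt l T0 1) with hβ
  have hβa : ∀ x y, β x y = tau q l T x y - polar q x y • T0 := by
    intro x y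
    rw [hβ, tau_sub, tau_bt, Module.End.one_apply]
  have hβs : ∀ x y, β x y = -β y x := by
    intro x y
    have h1 := hγe x y
    rw [hγa] at h1
    have h3 : γ u0 u0' = (2 : F) • T0 := by
      rw [hT0', smul_smul, mul_inv_cancel₀ h2, one_smul]
    rw [h3] at h1
    rw [hβa, hβa, polar_comm q y x]
    linear_combination (norm := module) h1
  by_cases hβ0 : β = 0
  · have hTe : T = bt l T0 1 := by
      refine ext_tau h2 hq l fun x y => ?_
      have h1 := LinearMap.congr_fun (LinearMap.congr_fun hβ0 x) y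
      rw [hβ, tau_sub] at h1
      exact sub_eq_zero.1 h1
    refine ⟨T0, 1, ?_, Or.inl rfl, by rw [← hTe]; exact hT⟩
    intro h
    rw [h, ← btA_apply, map_zero] at hTe
    exact hT0 hTe
  · obtain ⟨u, y, hu, hun, huy, hqy, hne⟩ : ∃ u y, q u = 0 ∧ u ≠ 0 ∧ polar q u y = 0 ∧ q y ≠ 0 ∧ β y u ≠ 0 := by
      by_contra hcon
      push Not at hcon
      exact hβ0 (alt_zero h2 hq hd hyp0 β hβs hcon)
    have hyu : polar q y u = 0 := by rw [polar_comm]; exact huy
    have huu : polar q u u = 0 := polar_self_of_sing hu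
    have hyy : polar q y y = 2 * q y := polar_self' y
    have h0 : sl l (om q u) * T * sl l (om q u) = 0 := by
      rw [om_mul_mul_om h2 hq, hsing u hun hu, ← btA_apply, map_zero]
    have h1 := H734.C7.opB hu huy l Z (fun y hy T hT => hZ u y hu hy T hT) hT h0
    set T1 := (2 : F) • (sl l (nn q u y) * T * sl l (nn q u y) + q y • (sl l (om q u) * T + T * sl l (om q u)))
      with hT1
    have hτ : ∀ x y, tau q l T x y = β x y + polar q x y • T0 := by
      intro x y; rw [hβa]; abel
    have hself : ∀ x, β x x = 0 := by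
      intro x
      have h1 := hβs x x
      have h3 : (2 : F) • β x x = 0 := by
        linear_combination (norm := module) h1
      exact (smul_eq_zero.1 h3).resolve_left h2
    have hT1τ : ∀ a b, tau q l T1 a b = (2 : F) • (polar q u a • (polar q y b • β y u - q y • β b u) -
        polar q u b • (polar q y a • β y u - q y • β a u)) := by
      intro a b
      rw [hT1, tau_T1]
      simp only [hτ, nn_apply, om_apply, map_sub, map_smul, LinearMap.sub_apply, LinearMap.smul_apply, hself,
        polar_smul_right, huu, hyy, hyu, huy, hβs u y, hβs u b, polar_comm q a u, smul_eq_mul]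
      module
    have hi : (q y)⁻¹ * q y = 1 := inv_mul_cancel₀ hqy
    rcases Nat.lt_or_ge 3 (Fintype.card κ) with h4 | h4
    · have h3 := hR h4 y hqy ⟨u, hun, hu, huy⟩ T1 h1
      have h4 := Z.sub_mem h1 h3
      have hrefl : ∀ x, (refl q y hqy)⁻¹ x = x - ((q y)⁻¹ * polar q y x) • y := by
        intro x
        rw [refl_inv, refl_apply]
      have he : T1 - cj (slE l (refl q y hqy)) T1 = bt l ((-(2 : F)) • β y u) (nn q u y) := by
        refine ext_tau h2 hq l fun a b => ?_
        rw [tau_sub, tau_cj l T1 (refl_mem_O hqy), tau_bt, hT1τ, hT1τ, hrefl, hrefl, nn_apply]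
        simp only [map_sub, map_smul, LinearMap.sub_apply, LinearMap.smul_apply, polar_sub_right, polar_smul_right,
          huy, hyy, smul_eq_mul, polar_comm q a u, polar_comm q a y]
        generalize (q y)⁻¹ = s at hi
        have hi' : (s * q y) • β y u = β y u := by rw [hi, one_smul]
        linear_combination (norm := module) (2 * (polar q u a * polar q y b - polar q u b * polar q y a)) • hi'
      rw [he] at h4
      exact ⟨_, _, smul_ne_zero (neg_ne_zero.2 h2) hne, Or.inr (Or.inr ⟨u, y, hun, hu, huy, hqy, rfl⟩), h4⟩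
    · have hk : Module.finrank F (κ → F) = 3 := by
        rw [Module.finrank_fintype_fun_eq_card]
        exact le_antisymm h4 H.three
      obtain ⟨u', hyp, hu'y⟩ := exists_partner_perp h2 hq hu hun huy hqy
      have hyy0 : polar q y y ≠ 0 := by rw [hyy]; exact mul_ne_zero h2 hqy
      have hlam : ∀ b, (2 * q y) • β b u = (2 * q y * polar q u b) • β u' u + polar q y b • β y u := by
        intro b
        have h5 := expand3 hk hyp huy hu'y hyy0 b
        conv_lhs => rw [h5]
        simp only [map_add, map_smul, LinearMap.add_apply, LinearMap.smul_apply, hself, hyy]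
        have h6 : (2 * q y)⁻¹ * (2 * q y) = 1 := inv_mul_cancel₀ (mul_ne_zero h2 hqy)
        generalize (2 * q y)⁻¹ = s at h6
        have h7 : (s * (2 * q y)) • β y u = β y u := by rw [h6, one_smul]
        linear_combination (norm := module) (polar q y b) • h7
      have he : T1 = bt l ((-(1 : F)) • β y u) (nn q u y) := by
        refine ext_tau h2 hq l fun a b => ?_
        rw [tau_bt, hT1τ, nn_apply]
        simp only [polar_sub_right, polar_smul_right, smul_eq_mul, polar_comm q a u, polar_comm q a y]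
        linear_combination (norm := module) (-(polar q u a)) • hlam b + (polar q u b) • hlam a
      rw [he] at h1
      exact ⟨_, _, smul_ne_zero (neg_ne_zero.2 one_ne_zero) hne, Or.inr (Or.inr ⟨u, y, hun, hu, huy, hqy, rfl⟩), h1⟩

end Cfsg.Agent.H69.C7
end

-- part: H69/C7/Purify
section
/-!
# Purification: an overgroup which is not thin contains `1 + c`, `c` a pure tensor of elementary operators
-/

set_option autoImplicit false
set_option linter.unusedSectionVars false

namespace Cfsg.Agent.H69.C7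

open QuadraticMap hiding proj
open Cfsg.Agent.LieClassical.OrthCore Cfsg.Agent.LieClassical.OrthTrans
open Cfsg.Agent.H882.Ten Cfsg.Agent.LieClassical.OrthFinite Cfsg.Agent.H883.C7

universe v

variable {F : Type*} [Field F] {κ : Type*} [Fintype κ] [DecidableEq κ]
  {q : QuadraticForm F (κ → F)}

/-- Every invariant non-zero additive group of operators contains a multiple of a pure tensor of elementary
operators. -/
theorem pure_of_inv [Finite F] (H : Hyp7 q) {u0 : κ → F} (hu0 : q u0 = 0) (hu0' : u0 ≠ 0) (n : ℕ) :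
    ∀ (ι : Type v) [Fintype ι] [DecidableEq ι], Fintype.card ι = n →
    ∀ (Z : AddSubgroup (Module.End F ((ι → κ) → F))),
    (∀ (l : ι) (u z : κ → F) (hu : q u = 0) (hz : polar q u z = 0), ∀ T ∈ Z,
      cj (slE l (siegel q u z hu hz)) T ∈ Z) →
    (4 ≤ Fintype.card κ → ∀ (l : ι) (y : κ → F) (hy : q y ≠ 0), (∃ u, u ≠ 0 ∧ q u = 0 ∧ polar q u y = 0) → ∀ T ∈ Z,
      cj (slE l (refl q y hy)) T ∈ Z) →
    ∀ T ∈ Z, T ≠ 0 → ∃ (r : F) (c : ι → Module.End F (κ → F)), r ≠ 0 ∧
      (∀ l, c l = 1 ∨ IsOm q (c l) ∨ IsNn q (c l)) ∧ r • op c ∈ Z := by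
  induction n with
  | zero =>
    intro ι _ _ hι Z _ _ T hT hT0
    have : IsEmpty ι := Fintype.card_eq_zero_iff.1 hι
    have h1 : ∀ v : (ι → κ) → F, v = (v isEmptyElim) • (tp fun _ => u0) := by
      intro v
      funext a
      rw [Pi.smul_apply, tp_apply, Finset.univ_eq_empty, Finset.prod_empty, smul_eq_mul, mul_one]
      congr 1
      exact Subsingleton.elim _ _
    obtain ⟨r, hr⟩ : ∃ r : F, T = r • 1 := by
      refine ⟨T (tp fun _ => u0) isEmptyElim, LinearMap.ext fun v => ?_⟩
      rw [LinearMap.smul_apply, Module.End.one_apply]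
      conv_lhs => rw [h1 v, map_smul, h1 (T _), smul_smul]
      conv_rhs => rw [h1 v, smul_smul]
      rw [mul_comm]
    refine ⟨r, fun _ => 1, ?_, fun l => Or.inl rfl, ?_⟩
    · rintro rfl
      rw [zero_smul] at hr
      exact hT0 hr
    · rw [op_one, ← hr]; exact hT
  | succ n ih =>
    intro ι _ _ hι Z hZ hR T hT hT0
    have hne : Nonempty ι := Fintype.card_pos_iff.1 (by omega)
    obtain ⟨l⟩ := hne
    obtain ⟨T1, c, hT1, hc, hmem⟩ := step H l Z (hZ l) (fun h4 => hR h4 l) hu0 hu0' hT hT0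
    let Z' : AddSubgroup (Module.End F (({j // j ≠ l} → κ) → F)) := Z.comap (btA l c).toAddMonoidHom
    have hZ' : ∀ X, X ∈ Z' ↔ bt l X c ∈ Z := fun X => Iff.rfl
    obtain ⟨r, c', hr, hc', hm⟩ := ih {j // j ≠ l} (by rw [Fintype.card_subtype_compl, hι]; simp) Z'
      (fun j u z hu hz X hX => by
        rw [hZ'] at hX ⊢
        rw [bt_cj]
        exact hZ j u z hu hz _ hX)
      (fun h4 j y hy hex X hX => by
        rw [hZ'] at hX ⊢
        rw [bt_cj]
        exact hR h4 j y hy hex _ hX) T1 hmem hT1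
    refine ⟨r, ins l c' c, hr, fun j => ?_, ?_⟩
    · by_cases hj : j = l
      · rw [hj, ins_same]; exact hc
      · rw [ins_ne l _ _ hj]; exact hc' _
    · rw [hZ', ← btA_apply, map_smul, btA_apply, bt_op] at hm
      exact hm

/-- A space satisfying `Hyp7` contains a non-zero singular vector. -/
theorem exists_sing [Finite F] (H : Hyp7 q) : ∃ u : κ → F, q u = 0 ∧ u ≠ 0 := by
  obtain ⟨u, hu, hu0, h⟩ := exists_sing_mem (Q := q) (⊤ : Submodule F (κ → F))
    (by rw [finrank_top, Module.finrank_fintype_fun_eq_card]; exact H.three)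
  exact ⟨u, by assumption, by assumption⟩

/-- The claim in the form used elsewhere. -/
theorem exists_pure [Finite F] (H : Hyp7 q) {ι : Type v} [Fintype ι] [DecidableEq ι]
    {Z : AddSubgroup (Module.End F ((ι → κ) → F))}
    (hE : ∀ (l : ι) (u z : κ → F) (hu : q u = 0) (hz : polar q u z = 0), ∀ T ∈ Z,
      cj (slE l (siegel q u z hu hz)) T ∈ Z)
    (hR : 4 ≤ Fintype.card κ → ∀ (l : ι) (y : κ → F) (hy : q y ≠ 0),
      (∃ u, u ≠ 0 ∧ q u = 0 ∧ polar q u y = 0) → ∀ T ∈ Z, cj (slE l (refl q y hy)) T ∈ Z)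
    {T : Module.End F ((ι → κ) → F)} (hT : T ∈ Z) (h0 : T ≠ 0) :
    ∃ (r : F) (c : ι → Module.End F (κ → F)), r ≠ 0 ∧
      (∀ l, c l = 1 ∨ IsOm q (c l) ∨ IsNn q (c l)) ∧ r • op c ∈ Z := by
  obtain ⟨u, hu, hu0⟩ := exists_sing H
  exact pure_of_inv H hu hu0 _ ι rfl Z hE hR T hT h0

/-- The isometry group is transitive on the singular vectors. -/
theorem exists_O_sing {V : Type*} [AddCommGroup V] [Module F V] {Q : QuadraticForm F V} (hQ : Nondeg Q)
    {u w : V} (hu : Q u = 0) (hu0 : u ≠ 0) (hw : Q w = 0) (hw0 : w ≠ 0) : ∃ e ∈ O Q, e u = w := by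
  by_cases h : polar Q u w = 0
  · by_cases hpar : ∀ c : F, u ≠ c • (w - u)
    · obtain ⟨g, hg, hgu⟩ := exists_siegel_of_orth hQ hu hw h hpar
      exact ⟨g, E_le_O hg, hgu⟩
    · push Not at hpar
      obtain ⟨c, hc⟩ := hpar
      have h1 : (1 + c) • u = c • w := by
        rw [add_smul, one_smul]
        nth_rewrite 1 [hc]
        module
      have hc0 : c ≠ 0 := by
        rintro rfl
        rw [zero_smul] at hc
        exact hu0 hc
      have hc1 : 1 + c ≠ 0 := by
        intro h0
        rw [h0, zero_smul] at h1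
        exact (smul_ne_zero hc0 hw0) h1.symm
      have h3 : w = (c⁻¹ * (1 + c)) • u := by
        rw [← smul_smul, h1, smul_smul, inv_mul_cancel₀ hc0, one_smul]
      obtain ⟨u', hyp⟩ := LieClassical.OrthTrans.exists_hyp hQ hu hu0
      obtain ⟨h, r, hO, _, hh, _⟩ := exists_torus0 hyp (mul_ne_zero (inv_ne_zero hc0) hc1)
      exact ⟨h, hO, by rw [hh, ← h3]⟩
  · have hv : Q (u - w) ≠ 0 := by
      rw [sub_eq_add_neg, Q_add, QuadraticMap.map_neg, polar_neg_right, hu, hw]
      simpa using h
    exact ⟨refl Q (u - w) hv, refl_mem_O hv, refl_sub_apply (by rw [hu, hw]) hv⟩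

theorem refl_fix {V : Type*} [AddCommGroup V] [Module F V] {Q : QuadraticForm F V} {y w : V} (hy : Q y ≠ 0)
    (h : polar Q y w = 0) : refl Q y hy w = w := by
  rw [refl_apply, h, mul_zero, zero_smul, sub_zero]

variable {ι : Type v} [Fintype ι] [DecidableEq ι] {M : Subgroup (((ι → κ) → F) ≃ₗ[F] ((ι → κ) → F))}

/-- Reflections in a slot act. -/
theorem inZ_refl (h2 : (2 : F) ≠ 0) (hq : Nondeg q) (hG : Good (QT q ι)) (hM : Over q M) {i : ι} {w : κ → F}
    (hw : q w = 0) (hw0 : w ≠ 0) {S : Module.End F (({j // j ≠ i} → κ) → F)} (hS : InZ (ten F κ i) q M w S)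
    (l : {j // j ≠ i}) {y : κ → F} (hy : q y ≠ 0) {u : κ → F} (hu0 : u ≠ 0) (hu : q u = 0)
    (huy : polar q u y = 0) : InZ (ten F κ i) q M w (cj (slE l (refl q y hy)) S) := by
  obtain ⟨e, he, heu⟩ := exists_O_sing hq hu hu0 hw hw0
  have hy' : q (e y) ≠ 0 := by rw [he]; exact hy
  have hwy : polar q (e y) w = 0 := by
    rw [← heu, polar_map he, polar_comm]; exact huy
  have hconj : refl q (e y) hy' = e * refl q y hy * e⁻¹ := (refl_conj he hy hy').symm
  set k := slE i (refl q (e y) hy') * slE (l : ι) (refl q y hy) with hk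
  have hkM : k ∈ M := by
    refine hM.2 _ ?_ ?_
    · have h1 : k = slE i e * (slE i (refl q y hy) * slE (l : ι) (refl q y hy)) * (slE i e)⁻¹ := by
        rw [hk, hconj, map_mul, map_mul, map_inv, mul_assoc (slE i e), mul_assoc (slE i e), mul_assoc (slE i e),
          mul_assoc (slE i (refl q y hy)), mul_assoc (slE i (refl q y hy))]
        congr 2
        rw [← map_inv]
        exact slE_comm (fun h => l.2 h.symm) _ _
      rw [h1]
      exact conj_mem_E (slE_mem_O h2 i he) (slE_mul_slE_mem_E h2 hG i l (refl_mem_O hy))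
    · rw [hk, slE_eq, slE_eq, ← map_mul]
      exact opE_isMono _
  obtain ⟨g, hg, hgt⟩ := hS
  refine ⟨k * g * k⁻¹, M.mul_mem (M.mul_mem hkM hg) (M.inv_mem hkM), fun a z => ?_⟩
  have hki : k⁻¹ = slE (l : ι) (refl q y hy) * slE i (refl q (e y) hy') := by
    rw [hk, mul_inv_rev, ← map_inv, ← map_inv, refl_inv, refl_inv]
  have h1 : k⁻¹ (ten F κ i a z) = ten F κ i (slE l (refl q y hy) a) (refl q (e y) hy' z) := by
    rw [hki, LinearEquiv.mul_apply, slE_ten, slE_sub_ten]
  have h3 : ∀ a z, k (ten F κ i a z) = ten F κ i (slE l (refl q y hy) a) (refl q (e y) hy' z) := by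
    intro a z
    rw [hk, LinearEquiv.mul_apply, slE_sub_ten, slE_ten]
  rw [LinearEquiv.mul_apply, LinearEquiv.mul_apply, h1, hgt, map_add, map_smul, h3, h3, cj_apply, ← map_inv,
    refl_inv, refl_fix hy' hwy]
  have e1 : slE l (refl q y hy) (slE l (refl q y hy) a) = a := by
    rw [← LinearEquiv.mul_apply, ← map_mul, refl_mul_self, map_one]; rfl
  have e2 : refl q (e y) hy' (refl q (e y) hy' z) = z := by
    rw [← LinearEquiv.mul_apply, refl_mul_self]; rfl
  have e3 : polar q w (refl q (e y) hy' z) = polar q w z := by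
    conv_lhs => rw [← refl_fix hy' hwy]
    exact polar_map (refl_mem_O hy') _ _
  rw [e1, e2, e3]

/-- Not thin: a non-zero `S` with `1 + S ⊗ ω_w ∈ M`. -/
theorem exists_inZ (h2 : (2 : F) ≠ 0) (hq : Nondeg q) (hM : Over q M) (hN : ¬ Thin q M) :
    ∃ (i : ι) (w : κ → F) (S : Module.End F (({j // j ≠ i} → κ) → F)), w ≠ 0 ∧ q w = 0 ∧ S ≠ 0 ∧
      InZ (ten F κ i) q M w S := by
  unfold Thin at hN
  push Not at hN
  obtain ⟨i, w, hw0, hw, g, hg, hfix, hg1⟩ := hN
  have S := tst (ι := ι) h2 hq i
  obtain ⟨w', hyp⟩ := LieClassical.OrthTrans.exists_hyp hq hw hw0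
  have hgO := hM.le_O hg
  have hQ := nondeg_QT (ι := ι) h2 hq
  -- the image of `g - 1` is perpendicular to the fixed vectors
  have himg : ∀ v v', (∀ a, polar (QT q ι) v' (ten F κ i a w) = 0) → polar (QT q ι) (g v - v) v' = 0 := by
    intro v v' hv'
    rw [polar_sub_left]
    conv_lhs => rw [← hfix v' hv']
    rw [polar_map hgO, hfix v' hv', sub_self]
  have hperp : ∀ a z, polar q w z = 0 → ∀ b, polar (QT q ι) (ten F κ i a z) (ten F κ i b w) = 0 := by
    intro a z hz b
    rw [S.pol, polar_comm q z w, hz, mul_zero]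
  have hcz : ∀ v z, polar q w z = 0 → S.cw z (g v - v) = 0 := by
    intro v z hz
    rw [S.cw_eq_zero_iff]
    intro a
    exact himg v _ (hperp a z hz)
  -- `g v - v = a ⊗ w`
  have hex : ∀ v, g v - v = ten F κ i (S.cw w' (g v - v)) w := by
    intro v
    have h1 := S.eq_t_of_perp (nondeg_QT h2 hq) hyp (hcz v)
    exact h1
  let S1 : Module.End F (({j // j ≠ i} → κ) → F) :=
    S.cw w' ∘ₗ ((g : ((ι → κ) → F) →ₗ[F] ((ι → κ) → F)) - LinearMap.id) ∘ₗ (ten F κ i).flip w'
  have hS1 : ∀ a, S1 a = S.cw w' (g (ten F κ i a w') - ten F κ i a w') := fun a => rfl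
  have hgt : ∀ a z, g (ten F κ i a z) = ten F κ i a z + polar q w z • ten F κ i (S1 a) w := by
    intro a z
    have e : z = polar q w z • w' + (z - polar q w z • w') := by abel
    have e1 : polar q w (z - polar q w z • w') = 0 := by
      rw [polar_sub_right, polar_smul_right, hyp.pair]; simp
    have e2 : g (ten F κ i a (z - polar q w z • w')) = ten F κ i a (z - polar q w z • w') :=
      hfix _ (hperp a _ e1)
    have e3 : g (ten F κ i a w') = ten F κ i a w' + ten F κ i (S1 a) w := by
      rw [hS1, ← hex]; abel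
    conv_lhs => rw [e, map_add, map_add, e2, map_smul, map_smul, e3]
    conv_rhs => rw [e, map_add]
    have e4 : polar q w (polar q w z • w' + (z - polar q w z • w')) = polar q w z := by rw [← e]
    rw [e4]
    simp only [map_smul]
    module
  refine ⟨i, w, S1, hw0, hw, ?_, g, hg, hgt⟩
  intro h
  apply hg1
  refine ext_t' S.ten fun a z => ?_
  rw [hgt, h, LinearMap.zero_apply, map_zero, LinearMap.zero_apply, smul_zero, add_zero]
  rfl

/-- **Purification.** -/
theorem purify [Finite F] (H : Hyp7 q) (ht : 2 ≤ Fintype.card ι) (hM : Over q M) (hN : ¬ Thin q M) :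
    ∃ (c : ι → Module.End F (κ → F)) (i j : ι), IsOm q (c i) ∧ IsNn q (c j) ∧
      (∀ l, c l = 1 ∨ IsOm q (c l) ∨ IsNn q (c l)) ∧ PX M (op c) := by
  have h2 := H.two
  have hq := H.nd
  have hG := H.good ht
  obtain ⟨i, w, S0, hw0, hw, hS0, hin⟩ := exists_inZ h2 hq hM hN
  have S := tst (ι := ι) h2 hq i
  let Z : AddSubgroup (Module.End F (({j // j ≠ i} → κ) → F)) :=
    AddSubgroup.ofSub {X | InZ (ten F κ i) q M w X} ⟨S0, hin⟩ (fun {X} hX {Y} hY => by
      rw [← sub_eq_add_neg]
      exact S.inZ_sub hw hX hY)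
  have hZ : ∀ X, X ∈ Z ↔ InZ (ten F κ i) q M w X := fun X => Iff.rfl
  obtain ⟨r, c, hr, hc, hm⟩ := pure_of_inv H hw hw0 _ {j // j ≠ i} rfl Z
    (fun l u z hu hz X hX => by
      rw [hZ] at hX ⊢
      refine S.inZ_cj hX ?_
      have := hM.siegel_mem h2 hG (l : ι) hu hz
      rwa [slE_sub] at this)
    (fun _ l y hy hex X hX => by
      rw [hZ] at hX ⊢
      obtain ⟨u, hu0, hu, huy⟩ := hex
      exact inZ_refl h2 hq hG hM hw hw0 hX l hy hu0 hu huy) S0 hin hS0
  rw [hZ] at hm
  -- some slot is skew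
  have hne : ∀ l, c l ≠ 0 := by
    intro l
    rcases hc l with h | ⟨u, hu0, hu, h⟩ | ⟨u, z, hu0, hu, hz, hqz, h⟩
    · rw [h]
      intro h0
      have := LinearMap.congr_fun h0 w
      exact hw0 this
    · rw [h]
      intro h0
      obtain ⟨u', hyp⟩ := LieClassical.OrthTrans.exists_hyp hq hu hu0
      have := LinearMap.congr_fun h0 u'
      rw [om_apply, hyp.pair, one_smul] at this
      exact hu0 this
    · rw [h]
      intro h0
      have := LinearMap.congr_fun h0 z
      rw [nn_apply, hz, zero_smul, zero_sub, polar_self', LinearMap.zero_apply, neg_eq_zero] at this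
      exact smul_ne_zero (mul_ne_zero h2 hqz) hu0 this
  have hopne : op c ≠ 0 := by
    have h1 : ∀ l, ∃ x, c l x ≠ 0 := by
      intro l
      by_contra hcon
      push Not at hcon
      exact hne l (LinearMap.ext hcon)
    choose x hx using h1
    intro h0
    have h3 := LinearMap.congr_fun h0 (tp x)
    rw [op_tp] at h3
    exact tp_ne_zero hx h3
  obtain ⟨j, hj⟩ : ∃ j, IsNn q (c j) := by
    by_contra hcon
    push Not at hcon
    have hsymm : ∀ l x y, polar q (c l x) y = polar q x (c l y) := by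
      intro l x y
      rcases hc l with h | ⟨u, hu0, hu, h⟩ | h
      · rw [h]; rfl
      · rw [h, om_adj]
      · exact absurd h (hcon l)
    have hS := S.inZ_skew hM.le_O hw hw0 hm
    apply hopne
    have hS2 : ∀ x y, polar (QT q {j // j ≠ i}) (op c x) y = polar (QT q {j // j ≠ i}) x (op c y) := by
      have : (polarBilin (QT q {j // j ≠ i})) ∘ₗ op c = (polarBilin (QT q {j // j ≠ i})).compl₂ (op c) := by
        refine tp_ext2 fun x y => ?_
        rw [LinearMap.comp_apply, LinearMap.compl₂_apply, polarBilin_apply_apply, polarBilin_apply_apply, op_tp,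
          op_tp, polar_tp h2, polar_tp h2]
        exact Finset.prod_congr rfl fun l _ => hsymm l _ _
      intro x y
      exact LinearMap.congr_fun (LinearMap.congr_fun this x) y
    refine LinearMap.ext fun x => nondeg_QT h2 hq _ fun y => ?_
    have h1 := hS x y
    rw [LinearMap.smul_apply, LinearMap.smul_apply, polar_smul_left, polar_smul_right, ← hS2, smul_eq_mul] at h1
    have h3 : (2 * r) * polar (QT q {j // j ≠ i}) (op c x) y = 0 := by linear_combination h1
    exact (mul_eq_zero.1 h3).resolve_left (mul_ne_zero h2 hr)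
  obtain ⟨u, z, hu0, hu, huz, hqz, hcj⟩ := hj
  have hrnn : r • c j = nn q u (r • z) := by
    rw [hcj]
    refine LinearMap.ext fun v => ?_
    rw [LinearMap.smul_apply, nn_apply, nn_apply, polar_smul_left, smul_eq_mul]
    module
  refine ⟨Function.update (ins i c (om q w)) j (r • c j), i, j, ?_, ?_, ?_, ?_⟩
  · rw [Function.update_of_ne (fun h => j.2 h.symm), ins_same]
    exact ⟨w, hw0, hw, rfl⟩
  · rw [Function.update_self, hrnn]
    refine ⟨u, r • z, hu0, hu, by rw [polar_smul_right, huz, smul_zero], ?_, rfl⟩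
    rw [QuadraticMap.map_smul, smul_eq_mul]
    exact mul_ne_zero (mul_ne_zero hr hr) hqz
  · intro l
    by_cases hl : l = j
    · rw [hl, Function.update_self, hrnn]
      refine Or.inr (Or.inr ⟨u, r • z, hu0, hu, by rw [polar_smul_right, huz, smul_zero], ?_, rfl⟩)
      rw [QuadraticMap.map_smul, smul_eq_mul]
      exact mul_ne_zero (mul_ne_zero hr hr) hqz
    · rw [Function.update_of_ne hl]
      by_cases hli : l = i
      · rw [hli, ins_same]
        exact Or.inr (Or.inl ⟨w, hw0, hw, rfl⟩)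
      · rw [ins_ne i _ _ hli]
        exact hc _
  · obtain ⟨g, hg, hgt⟩ := hm
    refine ⟨g, hg, ?_⟩
    rw [op_update_smul]
    have hupd : Function.update (ins i c (om q w)) (j : ι) (c j) = ins i c (om q w) := by
      have : c j = ins i c (om q w) j := (ins_sub i c _ j).symm
      conv_lhs => rw [this]
      exact Function.update_eq_self _ _
    rw [hupd, ← bt_op]
    have : (g : ((ι → κ) → F) →ₗ[F] ((ι → κ) → F)) = LinearMap.id + r • bt i (op c) (om q w) := by
      refine ext_t S.ten fun a z => ?_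
      rw [LinearEquiv.coe_coe, hgt, LinearMap.add_apply, LinearMap.smul_apply, LinearMap.smul_apply, bt_ten,
        om_apply, LinearMap.id_apply]
      simp only [map_smul, LinearMap.smul_apply]
      module
    intro v
    exact LinearMap.congr_fun this v

end Cfsg.Agent.H69.C7
end

-- part: H829/C7/SlRefl
section
/-!
# Single reflections in one slot of a tensor power, even dimension, at least three slots (helper829, task 1880)

* `exists_conj_refl` : reflections at vectors of proportional norm `q y = c ^ 2 * q x` are conjugate in `O`;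
* `mem_E_of_sum` : a product of reflections at pairwise orthogonal vectors which come in pairs of proportional norm;
* `slE_refl_mem_E`.
-/

set_option autoImplicit false
set_option linter.unusedSectionVars false

namespace Cfsg.Agent.H829.C7

open QuadraticMap hiding proj
open Cfsg.Agent.LieClassical.OrthCore Cfsg.Agent.LieClassical.OrthTrans
open Cfsg.Agent.H882.Ten Cfsg.Agent.LieClassical.OrthFinite Cfsg.Agent.H883.C7

section one

variable {F : Type*} {V : Type*} [Field F] [AddCommGroup V] [Module F V] {Q : QuadraticForm F V}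

theorem refl_congr {v w : V} (hv : Q v ≠ 0) (hw : Q w ≠ 0) (h : v = w) : refl Q v hv = refl Q w hw := by
  subst h; rfl

/-- Reflections at vectors of equal norm are conjugate. -/
theorem exists_conj_refl_eq (h2 : (2 : F) ≠ 0) {x y : V} (hx : Q x ≠ 0) (hy : Q y ≠ 0) (h : Q x = Q y) :
    ∃ g ∈ O Q, refl Q y hy = g * refl Q x hx * g⁻¹ := by
  have hsum : Q (y - x) + Q (y + x) = 4 * Q y := by
    rw [sub_eq_add_neg, Q_add, Q_add, QuadraticMap.map_neg, polar_neg_right, h]
    ring
  have h4 : (4 : F) ≠ 0 := by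
    have : (4 : F) = 2 * 2 := by norm_num
    rw [this]; exact mul_ne_zero h2 h2
  by_cases hd : Q (y - x) = 0
  · have hd' : Q (y + x) ≠ 0 := by
      rw [hd, zero_add] at hsum
      rw [hsum]; exact mul_ne_zero h4 hy
    have hd'' : Q (y - (-x)) ≠ 0 := by rwa [sub_neg_eq_add]
    have hx' : Q (-x) = Q y := by rw [QuadraticMap.map_neg, h]
    have h1 : refl Q (y - (-x)) hd'' y = -x := refl_sub_apply hx' hd''
    have h3 : Q (refl Q (y - (-x)) hd'' y) ≠ 0 := by rw [h1, QuadraticMap.map_neg]; exact hx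
    have h5 := refl_conj (refl_mem_O hd'') hy h3
    have h6 : refl Q (refl Q (y - (-x)) hd'' y) h3 = refl Q x hx := by
      have hm : Q ((-1 : F) • x) ≠ 0 := by rw [neg_one_smul, QuadraticMap.map_neg]; exact hx
      rw [← refl_smul hx (neg_ne_zero.2 one_ne_zero) hm]
      exact refl_congr _ _ (by rw [h1, neg_one_smul])
    refine ⟨refl Q (y - (-x)) hd'', refl_mem_O hd'', ?_⟩
    rw [← h6, ← h5, refl_inv]
    have := refl_mul_self hd''
    calc refl Q y hy = 1 * refl Q y hy * 1 := by group
      _ = _ := by rw [← this]; group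
  · have h1 : refl Q (y - x) hd y = x := refl_sub_apply h hd
    have h3 : Q (refl Q (y - x) hd y) ≠ 0 := by rw [h1]; exact hx
    have h5 := refl_conj (refl_mem_O hd) hy h3
    have h6 : refl Q (refl Q (y - x) hd y) h3 = refl Q x hx := refl_congr _ _ h1
    refine ⟨refl Q (y - x) hd, refl_mem_O hd, ?_⟩
    rw [← h6, ← h5, refl_inv]
    have := refl_mul_self hd
    calc refl Q y hy = 1 * refl Q y hy * 1 := by group
      _ = _ := by rw [← this]; group

/-- Reflections at vectors of proportional norm are conjugate. -/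
theorem exists_conj_refl (h2 : (2 : F) ≠ 0) {x y : V} (hx : Q x ≠ 0) (hy : Q y ≠ 0) {c : F}
    (h : Q y = c ^ 2 * Q x) : ∃ g ∈ O Q, refl Q y hy = g * refl Q x hx * g⁻¹ := by
  have hc : c ≠ 0 := by
    rintro rfl
    apply hy
    rw [h]; ring
  have e : Q (c • x) = Q y := by rw [QuadraticMap.map_smul, h, smul_eq_mul, pow_two]
  have hx' : Q (c • x) ≠ 0 := by rw [e]; exact hy
  obtain ⟨g, hg, h1⟩ := exists_conj_refl_eq h2 hx' hy e
  exact ⟨g, hg, by rw [h1, refl_smul hx hc]⟩

/-- the class of a reflection in the abelianization of the isometry group -/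
noncomputable def rc (Q : QuadraticForm F V) (v : V) (hv : Q v ≠ 0) : Abelianization (O Q) :=
  Abelianization.of ⟨refl Q v hv, refl_mem_O hv⟩

theorem rc_sq {v : V} (hv : Q v ≠ 0) : rc Q v hv * rc Q v hv = 1 := by
  unfold rc
  rw [← map_mul, ← map_one Abelianization.of]
  congr 1
  exact Subtype.ext (refl_mul_self hv)

theorem conj_comm' {A : Type*} [CommGroup A] (a b : A) : a * b * a⁻¹ = b := by
  rw [mul_comm a b, mul_inv_cancel_right]

theorem rc_eq (h2 : (2 : F) ≠ 0) {x y : V} (hx : Q x ≠ 0) (hy : Q y ≠ 0) {c : F} (h : Q y = c ^ 2 * Q x) :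
    rc Q y hy = rc Q x hx := by
  obtain ⟨g, hg, h1⟩ := exists_conj_refl h2 hx hy h
  have e : (⟨refl Q y hy, refl_mem_O hy⟩ : O Q) = ⟨g, hg⟩ * ⟨refl Q x hx, refl_mem_O hx⟩ * (⟨g, hg⟩ : O Q)⁻¹ :=
    Subtype.ext h1
  unfold rc
  rw [e, map_mul, map_mul, map_inv]
  exact conj_comm' _ _

/-- **Products of reflections at pairwise orthogonal vectors which come in pairs.** -/
theorem mem_E_of_sum [FiniteDimensional F V] (h2 : (2 : F) ≠ 0) (hG : Good Q) {P : Type*} [Fintype P] [DecidableEq P]
    (v : P → V) (hv : ∀ p, Q (v p) ≠ 0) (ho : ∀ p p', p ≠ p' → polar Q (v p) (v p') = 0) (τ : P → P)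
    (hτ : ∀ p, τ (τ p) = p) (hτ' : ∀ p, τ p ≠ p) (c : P → F) (hc : ∀ p, Q (v (τ p)) = c p ^ 2 * Q (v p))
    {g : V ≃ₗ[F] V} (hg : ∀ w, g w = w - ∑ p, ((Q (v p))⁻¹ * polar Q (v p) w) • v p) : g ∈ E Q := by
  have key : ∀ s : Finset P, ∃ h : O Q, Abelianization.of h = ∏ p ∈ s, rc Q (v p) (hv p) ∧
      ∀ w, (h : V ≃ₗ[F] V) w = w - ∑ p ∈ s, ((Q (v p))⁻¹ * polar Q (v p) w) • v p := by
    intro s
    induction s using Finset.induction_on with
    | empty => exact ⟨1, by simp, fun w => by simp⟩
    | insert a s ha ih =>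
      obtain ⟨h, h1, h3⟩ := ih
      refine ⟨⟨refl Q (v a) (hv a), refl_mem_O (hv a)⟩ * h, ?_, ?_⟩
      · rw [map_mul, h1, Finset.prod_insert ha]; rfl
      · intro w
        show refl Q (v a) (hv a) ((h : V ≃ₗ[F] V) w) = _
        have h4 : polar Q (v a) (∑ p ∈ s, ((Q (v p))⁻¹ * polar Q (v p) w) • v p) = 0 := by
          have e1 : polar Q (v a) (∑ p ∈ s, ((Q (v p))⁻¹ * polar Q (v p) w) • v p) =
              polarBilin Q (v a) (∑ p ∈ s, ((Q (v p))⁻¹ * polar Q (v p) w) • v p) := rfl
          rw [e1, map_sum]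
          refine Finset.sum_eq_zero fun p hp => ?_
          rw [map_smul, polarBilin_apply_apply, ho a p (fun h => ha (h ▸ hp)), smul_zero]
        rw [refl_apply, h3, Finset.sum_insert ha, polar_sub_right, h4, sub_zero]
        abel
  obtain ⟨h, h1, h3⟩ := key Finset.univ
  have h4 : (h : V ≃ₗ[F] V) = g := by
    refine LinearEquiv.ext fun w => ?_
    rw [h3, hg]
  have h5 : ∏ p, rc Q (v p) (hv p) = 1 := by
    refine Finset.prod_involution (fun p _ => τ p) ?_ (fun p _ _ => hτ' p) (fun p _ => Finset.mem_univ _)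
      (fun p _ => hτ p)
    intro p _
    rw [rc_eq h2 (hv p) (hv (τ p)) (hc p)]
    exact rc_sq (hv p)
  rw [h5] at h1
  have h6 : h ∈ commutator (O Q) := by
    rw [← Abelianization.ker_of]
    exact h1
  rw [← h4, ← hG.commutator_eq_E, ← Subgroup.map_subtype_commutator]
  exact ⟨h, h6, rfl⟩

/-- An orthogonal basis. -/
theorem exists_orth [FiniteDimensional F V] (h2 : (2 : F) ≠ 0) (hQ : Nondeg Q) :
    ∃ u : Fin (Module.finrank F V) → V, (∀ r, Q (u r) ≠ 0) ∧ (∀ r s, r ≠ s → polar Q (u r) (u s) = 0) ∧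
      ∀ x, ∑ r, ((polar Q (u r) (u r))⁻¹ * polar Q (u r) x) • u r = x := by
  have : Invertible (2 : F) := invertibleOfNonzero h2
  have hs : (polarBilin Q).IsSymm := ⟨fun x y => by
    rw [RingHom.id_apply, polarBilin_apply_apply, polarBilin_apply_apply, polar_comm]⟩
  obtain ⟨v, hv⟩ := LinearMap.BilinForm.exists_orthogonal_basis hs
  have ho : ∀ r s, r ≠ s → polar Q (v r) (v s) = 0 := fun r s hrs => hv hrs
  have hne : ∀ r, polar Q (v r) (v r) ≠ 0 := by
    intro r hr
    refine v.ne_zero r (hQ _ fun y => ?_)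
    have e1 : polar Q (v r) y = polarBilin Q (v r) y := rfl
    rw [e1, ← v.sum_repr y, map_sum]
    refine Finset.sum_eq_zero fun s _ => ?_
    rw [map_smul, polarBilin_apply_apply]
    by_cases h : r = s
    · subst h; rw [hr, smul_zero]
    · rw [ho r s h, smul_zero]
  refine ⟨v, fun r h => hne r ((Q_zero_iff h2 _).1 h), ho, fun x => ?_⟩
  have e2 : ∀ r, (polar Q (v r) (v r))⁻¹ * polar Q (v r) x = v.repr x r := by
    intro r
    have e1 : polar Q (v r) x = polarBilin Q (v r) x := rfl
    conv_lhs => rw [e1, ← v.sum_repr x, map_sum]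
    rw [Finset.sum_eq_single r]
    · rw [map_smul, polarBilin_apply_apply, smul_eq_mul, mul_comm, mul_assoc, mul_inv_cancel₀ (hne r), mul_one]
    · intro s _ hs
      rw [map_smul, polarBilin_apply_apply, ho r s (Ne.symm hs), smul_zero]
    · intro h; exact absurd (Finset.mem_univ _) h
  rw [Finset.sum_congr rfl fun r _ => by rw [e2 r]]
  exact v.sum_repr x

end one

section two

variable {F : Type*} {U : Type*} {W : Type*} {V : Type*} [Field F] [AddCommGroup U] [Module F U]
  [AddCommGroup W] [Module F W] [AddCommGroup V] [Module F V] {t : U →ₗ[F] W →ₗ[F] V} {QU : QuadraticForm F U}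
  {QW : QuadraticForm F W} {Q : QuadraticForm F V}

/-- A reflection of the second factor as a sum over an orthogonal basis of the first factor. -/
theorem rW_refl_sum (S : TSt t QU QW Q) {P : Type*} [Fintype P] (e : P → U) (he : ∀ p, QU (e p) ≠ 0)
    (hsum : ∀ a, ∑ p, ((polar QU (e p) (e p))⁻¹ * polar QU (e p) a) • e p = a) {y : W} (hy : QW y ≠ 0) (w : V) :
    rW S.ten (refl QW y hy) w = w - ∑ p, ((Q (t (e p) y))⁻¹ * polar Q (t (e p) y) w) • t (e p) y := by
  have key : ((rW S.ten (refl QW y hy) : V ≃ₗ[F] V) : V →ₗ[F] V) =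
      LinearMap.id - ∑ p, (Q (t (e p) y))⁻¹ • (polarBilin Q (t (e p) y)).smulRight (t (e p) y) := by
    refine ext_t S.ten fun a x => ?_
    rw [LinearMap.sub_apply, LinearMap.sum_apply, LinearMap.id_apply, LinearEquiv.coe_coe, rW_apply, refl_apply]
    have h1 : ∀ p, ((Q (t (e p) y))⁻¹ • (polarBilin Q (t (e p) y)).smulRight (t (e p) y)) (t a x) =
        ((QW y)⁻¹ * polar QW y x) • t (((polar QU (e p) (e p))⁻¹ * polar QU (e p) a) • e p) y := by
      intro p
      rw [LinearMap.smul_apply, LinearMap.smulRight_apply, polarBilin_apply_apply, S.pol, S.Q_t, map_smul,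
        LinearMap.smul_apply, smul_smul, smul_smul, polar_self']
      congr 1
      have := he p
      have h2 := S.two
      field_simp
    rw [Finset.sum_congr rfl fun p _ => h1 p, ← Finset.smul_sum]
    have h3 : ∑ p, t (((polar QU (e p) (e p))⁻¹ * polar QU (e p) a) • e p) y = t a y := by
      rw [← LinearMap.sum_apply, ← map_sum, hsum]
    rw [h3, map_sub, map_smul]
  have := LinearMap.congr_fun key w
  rw [LinearEquiv.coe_coe] at this
  rw [this, LinearMap.sub_apply, LinearMap.sum_apply, LinearMap.id_apply]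
  congr 1
  refine Finset.sum_congr rfl fun p _ => ?_
  rw [LinearMap.smul_apply, LinearMap.smulRight_apply, polarBilin_apply_apply, smul_smul]

end two

section pairing

/-- The fixed point free involution on the basis tensors. -/
theorem pairing {F : Type*} [Field F] {J : Type*} [Fintype J] [DecidableEq J] {n : ℕ} (hn : Even n) (m1 m2 : J)
    (hm : m1 ≠ m2) (a : Fin n → F) (ha : ∀ r, a r ≠ 0) :
    ∃ (τ : (J → Fin n) → (J → Fin n)) (c : (J → Fin n) → F), (∀ p, τ (τ p) = p) ∧ (∀ p, τ p ≠ p) ∧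
      ∀ p, ∏ j, a (τ p j) = c p ^ 2 * ∏ j, a (p j) := by
  have hrev : ∀ r : Fin n, Fin.rev r ≠ r := by
    intro r h
    have h1 := congrArg Fin.val h
    rw [Fin.val_rev] at h1
    have h2 := r.2
    obtain ⟨k, hk⟩ := hn
    omega
  let τ : (J → Fin n) → (J → Fin n) := fun p =>
    if p m1 = p m2 then (fun j => if j = m1 ∨ j = m2 then Fin.rev (p j) else p j) else (fun j => p (Equiv.swap m1 m2 j))
  have hτ1 : ∀ p, p m1 = p m2 → τ p = fun j => if j = m1 ∨ j = m2 then Fin.rev (p j) else p j := fun p h => if_pos h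
  have hτ2 : ∀ p, p m1 ≠ p m2 → τ p = fun j => p (Equiv.swap m1 m2 j) := fun p h => if_neg h
  refine ⟨τ, fun p => if p m1 = p m2 then a (Fin.rev (p m1)) / a (p m1) else 1, ?_, ?_, ?_⟩
  · intro p
    by_cases h : p m1 = p m2
    · have h1 : (τ p) m1 = (τ p) m2 := by rw [hτ1 p h]; simp [h]
      rw [hτ1 _ h1, hτ1 p h]
      funext j
      by_cases hj : j = m1 ∨ j = m2
      · simp only [if_pos hj, Fin.rev_rev]
      · simp only [if_neg hj]
    · have h1 : (τ p) m1 ≠ (τ p) m2 := by
        rw [hτ2 p h]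
        simp only [Equiv.swap_apply_left, Equiv.swap_apply_right]
        exact Ne.symm h
      rw [hτ2 _ h1, hτ2 p h]
      funext j
      simp only [Equiv.swap_apply_self]
  · intro p hp
    by_cases h : p m1 = p m2
    · have h1 := congrFun hp m1
      rw [hτ1 p h] at h1
      simp only [true_or, if_true] at h1
      exact hrev _ h1
    · have h1 := congrFun hp m1
      rw [hτ2 p h] at h1
      simp only [Equiv.swap_apply_left] at h1
      exact h h1.symm
  · intro p
    by_cases h : p m1 = p m2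
    · simp only [if_pos h, hτ1 p h]
      have h1 : ∀ j, a (if j = m1 ∨ j = m2 then Fin.rev (p j) else p j) =
          (if j = m1 ∨ j = m2 then a (Fin.rev (p m1)) / a (p m1) else 1) * a (p j) := by
        intro j
        by_cases hj : j = m1 ∨ j = m2
        · rw [if_pos hj, if_pos hj]
          have : p j = p m1 := by rcases hj with rfl | rfl; exacts [rfl, h.symm]
          rw [this, div_mul_cancel₀ _ (ha _)]
        · rw [if_neg hj, if_neg hj, one_mul]
      rw [Finset.prod_congr rfl fun j _ => h1 j, Finset.prod_mul_distrib]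
      congr 1
      rw [← Finset.prod_subset (Finset.subset_univ {m1, m2})]
      · rw [Finset.prod_pair hm]
        simp [pow_two]
      · intro j _ hj
        rw [Finset.mem_insert, Finset.mem_singleton] at hj
        exact if_neg hj
    · simp only [if_neg h, hτ2 p h, one_pow, one_mul]
      exact Equiv.prod_comp (Equiv.swap m1 m2) (fun j => a (p j))

end pairing

section three

variable {F : Type*} [Field F] {κ : Type*} [Fintype κ] [DecidableEq κ] {ι : Type*} [Fintype ι] [DecidableEq ι]

/-- Expansion in an orthogonal basis of pure tensors. -/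
theorem tp_expand {q : QuadraticForm F (κ → F)} (h2 : (2 : F) ≠ 0) {n : ℕ} (u : Fin n → (κ → F))
    (hx : ∀ x, ∑ r, ((polar q (u r) (u r))⁻¹ * polar q (u r) x) • u r = x) (a : (ι → κ) → F) :
    ∑ p : ι → Fin n, ((polar (QT q ι) (tp fun i => u (p i)) (tp fun i => u (p i)))⁻¹ *
      polar (QT q ι) (tp fun i => u (p i)) a) • tp (fun i => u (p i)) = a := by
  have key : ∑ p : ι → Fin n, (polar (QT q ι) (tp fun i => u (p i)) (tp fun i => u (p i)))⁻¹ •
      (polarBilin (QT q ι) (tp fun i => u (p i))).smulRight (tp fun i => u (p i)) = LinearMap.id := by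
    refine tp_ext fun x => ?_
    rw [LinearMap.sum_apply, LinearMap.id_apply]
    have h1 : ∀ p : ι → Fin n, ((polar (QT q ι) (tp fun i => u (p i)) (tp fun i => u (p i)))⁻¹ •
        (polarBilin (QT q ι) (tp fun i => u (p i))).smulRight (tp fun i => u (p i))) (tp x) =
        tpM F ι κ (fun i => ((polar q (u (p i)) (u (p i)))⁻¹ * polar q (u (p i)) (x i)) • u (p i)) := by
      intro p
      rw [tpM_apply, tp_smul_all, LinearMap.smul_apply, LinearMap.smulRight_apply, polarBilin_apply_apply,
        polar_tp h2, polar_tp h2, smul_smul, ← Finset.prod_inv_distrib, ← Finset.prod_mul_distrib]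
    rw [Finset.sum_congr rfl fun p _ => h1 p,
      ← (tpM F ι κ).map_sum (fun i r => ((polar q (u r) (u r))⁻¹ * polar q (u r) (x i)) • u r), tpM_apply]
    congr 1
    funext i
    exact hx (x i)
  have h3 := LinearMap.congr_fun key a
  rw [LinearMap.sum_apply, LinearMap.id_apply] at h3
  conv_rhs => rw [← h3]
  refine Finset.sum_congr rfl fun p _ => ?_
  rw [LinearMap.smul_apply, LinearMap.smulRight_apply, polarBilin_apply_apply, smul_smul]

/-- **Reflections in one slot, even dimension, at least three slots.** -/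
theorem slE_refl_mem_E_even {q : QuadraticForm F (κ → F)} (h2 : (2 : F) ≠ 0) (hq : Nondeg q)
    (heven : Even (Fintype.card κ)) (hG : Good (QT q ι)) (ht : 3 ≤ Fintype.card ι) (i : ι) {y : κ → F}
    (hy : q y ≠ 0) : slE i (refl q y hy) ∈ E (QT q ι) := by
  classical
  have S := tst (ι := ι) h2 hq i
  obtain ⟨u, hu, ho, hx⟩ := exists_orth h2 hq
  have hn : Even (Module.finrank F (κ → F)) := by rwa [Module.finrank_fintype_fun_eq_card]
  -- two further slots
  have hc : 1 < Fintype.card {j // j ≠ i} := by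
    have h1 : Fintype.card {j // j ≠ i} = Fintype.card ι - 1 := by
      rw [Fintype.card_subtype_compl, Fintype.card_subtype_eq]
    omega
  obtain ⟨m1, m2, hm⟩ := Fintype.exists_pair_of_one_lt_card hc
  have ha : ∀ r, polar q (u r) (u r) ≠ 0 := fun r h => hu r ((Q_zero_iff h2 _).2 h)
  obtain ⟨τ, c, hτ, hτ', hcc⟩ := pairing hn m1 m2 hm (fun r => polar q (u r) (u r)) ha
  obtain ⟨e, he⟩ : ∃ e : ({j // j ≠ i} → Fin (Module.finrank F (κ → F))) → (({j // j ≠ i} → κ) → F),
      e = fun p => tp (fun j => u (p j)) := ⟨_, rfl⟩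
  have hQe : ∀ p, QT q {j // j ≠ i} (e p) = 2⁻¹ * ∏ j, polar q (u (p j)) (u (p j)) := by
    intro p
    rw [he, Q_eq_half h2, polar_tp h2]
  have hQe0 : ∀ p, QT q {j // j ≠ i} (e p) ≠ 0 := by
    intro p
    rw [hQe]
    exact mul_ne_zero (inv_ne_zero h2) (Finset.prod_ne_zero_iff.2 fun j _ => ha _)
  have hg := rW_refl_sum S e hQe0 (fun a => by rw [he]; exact tp_expand h2 u hx a) hy
  rw [slE_eq_rW]
  refine mem_E_of_sum h2 hG (fun p => ten F κ i (e p) y) ?_ ?_ τ hτ hτ' c ?_ hg
  · intro p
    rw [S.Q_t]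
    exact mul_ne_zero h2 (mul_ne_zero (hQe0 p) hy)
  · intro p p' hp
    rw [S.pol, he]
    obtain ⟨j, hj⟩ := Function.ne_iff.1 hp
    rw [polar_tp h2, Finset.prod_eq_zero (Finset.mem_univ j) (ho _ _ hj), zero_mul]
  · intro p
    rw [S.Q_t, S.Q_t, hQe, hQe, hcc p]
    ring

/-- **Task R4.** -/
theorem slE_refl_mem_E [Finite F] {q : QuadraticForm F (κ → F)} (H : Hyp7 q) (hk : Fintype.card κ = 4)
    (ht : 3 ≤ Fintype.card ι) (i : ι) {y : κ → F} (hy : q y ≠ 0) : slE i (refl q y hy) ∈ E (QT q ι) :=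
  slE_refl_mem_E_even H.two H.nd (by rw [hk]; decide) (H.good (by omega)) ht i hy

end three

end Cfsg.Agent.H829.C7
end

-- part: H829/C7/RadFour
section
/-!
# Thin overgroups, slots of dimension four and minus type: the radical (helper829, task 1881)
-/

set_option autoImplicit false
set_option linter.unusedSectionVars false
set_option linter.unusedSimpArgs false

namespace Cfsg.Agent.H829.C7

open QuadraticMap hiding proj
open Cfsg.Agent.LieClassical.OrthCore Cfsg.Agent.LieClassical.OrthTrans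
open Cfsg.Agent.H882.Ten Cfsg.Agent.LieClassical.OrthFinite
open Cfsg.Agent.H883.C7
open Cfsg.Agent.H734.C7 (E2 E2_eq E2_par exists_two)
open scoped commutatorElement

section one

variable {F : Type*} {V : Type*} [Field F] [AddCommGroup V] [Module F V] {Q : QuadraticForm F V}

theorem nn_add' (u x y : V) : nn Q u (x + y) = nn Q u x + nn Q u y := by
  refine LinearMap.ext fun v => ?_
  simp only [LinearMap.add_apply, nn_apply, polar_add_left]
  module

theorem nn_sub' (u x y : V) : nn Q u (x - y) = nn Q u x - nn Q u y := by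
  refine LinearMap.ext fun v => ?_
  simp only [LinearMap.sub_apply, nn_apply, polar_sub_left]
  module

theorem nn_neg' (u x : V) : nn Q u (-x) = - nn Q u x := by
  refine LinearMap.ext fun v => ?_
  simp only [LinearMap.neg_apply, nn_apply, polar_neg_left]
  module

/-- Conjugation by a Siegel element. -/
theorem cj_siegel' {u y : V} (hu : Q u = 0) (hy : polar Q u y = 0) (T : Module.End F V) :
    cj (siegel Q u y hu hy) T =
      (1 + nn Q u y - Q y • om Q u) * T * (1 - nn Q u y - Q y • om Q u) := by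
  rw [cj_eq_iff, siegel_eq hu hy]
  have h1 := nn_sq hu hy
  have h2 := nn_om hu hy
  have h3 := om_nn hu hy
  have h4 := om_om hu
  generalize nn Q u y = n at *
  generalize om Q u = w at *
  have h5 : (1 - n - Q y • w) * (1 + n - Q y • w) = 1 := by
    simp only [mul_add, sub_mul, mul_sub, one_mul, mul_one, smul_mul_assoc, mul_smul_comm, h1, h2, h3, h4]
    module
  rw [mul_assoc ((1 + n - Q y • w) * T), h5, mul_one]

/-- twice the even part as a combination of conjugates -/
theorem cj_E2 {u y : V} (hu : Q u = 0) (hy : polar Q u y = 0) (hy' : polar Q u (-y) = 0) (T : Module.End F V) :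
    cj (siegel Q u y hu hy) T + cj (siegel Q u (-y) hu hy') T - (T + T) = E2 (om Q u) T (nn Q u y) (Q y) := by
  rw [cj_siegel', cj_siegel', nn_neg', QuadraticMap.map_neg, ← sub_eq_add_neg, sub_neg_eq_add, ← E2_eq,
    two_smul]

/-- A self-adjoint operator `T` with `B (v, T v) = 0` for all singular `v` is scalar (anisotropic case). -/
theorem scalar_of_sing (h2 : (2 : F) ≠ 0) (hQ : Nondeg Q) [FiniteDimensional F V] (hd : 4 ≤ Module.finrank F V)
    (h4 : ∀ w x : V, w ≠ 0 → Q w = 0 → Q x = 0 → polar Q w x = 0 → ∃ c : F, x = c • w)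
    {u u' : V} (hyp : Hyp Q u u') (T : Module.End F V)
    (hsym : ∀ x y, polar Q (T x) y = polar Q x (T y)) (hT : ∀ v, Q v = 0 → polar Q v (T v) = 0) :
    ∃ c : F, ∀ v, T v = c • v := by
  have hQ0 : ∀ y, polar Q u y = 0 → polar Q u' y = 0 → y ≠ 0 → Q y ≠ 0 := by
    intro y h1 h3 h0 hq
    obtain ⟨c, rfl⟩ := h4 u y hyp.left_ne hyp.left hq h1
    rw [polar_smul_right, hyp.pair', smul_eq_mul, mul_one] at h3
    rw [h3, zero_smul] at h0
    exact h0 rfl
  -- the basic identity
  have key : ∀ (x x' y : V), Hyp Q x x' → polar Q x y = 0 → polar Q x' y = 0 →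
      polar Q y (T y) = 2 * polar Q x' (T x) * Q y ∧ polar Q x' (T y) = Q y * polar Q y (T x) := by
    intro x x' y hx h1 h3
    have h1' : polar Q y x = 0 := by rw [polar_comm]; exact h1
    have h3' : polar Q y x' = 0 := by rw [polar_comm]; exact h3
    have hv : ∀ y, polar Q x y = 0 → polar Q x' y = 0 → Q (x' + y - Q y • x) = 0 := by
      intro y h1 h3
      have e : x' + y - Q y • x = x' + (y + (-Q y) • x) := by module
      rw [e, Q_add, Q_add, QuadraticMap.map_smul, hx.left, hx.right, polar_add_right, polar_smul_right,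
        polar_smul_right, h3, hx.pair', polar_comm Q y x, h1]
      simp
    have a1 := hT _ (hv y h1 h3)
    have a2 := hT _ (hv (-y) (by rw [polar_neg_right, h1, neg_zero]) (by rw [polar_neg_right, h3, neg_zero]))
    have a3 := hT x hx.left
    have a4 := hT x' hx.right
    have s1 : polar Q x (T x') = polar Q x' (T x) := by rw [← hsym, polar_comm]
    have s2 : polar Q x (T y) = polar Q y (T x) := by rw [← hsym, polar_comm]
    have s3 : polar Q y (T x') = polar Q x' (T y) := by rw [← hsym, polar_comm]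
    rw [QuadraticMap.map_neg] at a2
    simp only [map_add, map_sub, map_neg, map_smul, polar_add_left, polar_add_right, polar_sub_left,
      polar_sub_right, polar_neg_left, polar_neg_right, polar_smul_left, polar_smul_right, smul_eq_mul, a3, a4,
      s1, s2, s3] at a1 a2
    have h22 : (2 : F) * 2 ≠ 0 := mul_ne_zero h2 h2
    refine ⟨?_, ?_⟩
    · have : (2 : F) * (polar Q y (T y) - 2 * polar Q x' (T x) * Q y) = 0 := by linear_combination a1 + a2
      exact sub_eq_zero.1 ((mul_eq_zero.1 this).resolve_left h2)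
    · have : (2 : F) * 2 * (polar Q x' (T y) - Q y * polar Q y (T x)) = 0 := by linear_combination a1 - a2
      exact sub_eq_zero.1 ((mul_eq_zero.1 this).resolve_left h22)
  -- the mixed terms vanish
  have hM : ∀ (x x' y : V), Hyp Q x x' → (∀ y, polar Q x y = 0 → polar Q x' y = 0 → y ≠ 0 → Q y ≠ 0) →
      polar Q x y = 0 → polar Q x' y = 0 → polar Q y (T x) = 0 := by
    intro x x' y hx hQ0 h1 h3
    obtain ⟨y', hy0, hy'⟩ := exists_perp_ne (Q := Q) ![x, x', y] (by omega)
    have g1 : polar Q x y' = 0 := hy' 0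
    have g2 : polar Q x' y' = 0 := hy' 1
    have g3 : polar Q y y' = 0 := hy' 2
    have b1 := (key x x' y hx h1 h3).2
    have b2 := (key x x' y' hx g1 g2).2
    have b3 := (key x x' (y + y') hx (by rw [polar_add_right, h1, g1, add_zero])
      (by rw [polar_add_right, h3, g2, add_zero])).2
    have b4 := (key x x' (y - y') hx (by rw [polar_sub_right, h1, g1, sub_zero])
      (by rw [polar_sub_right, h3, g2, sub_zero])).2
    have q1 : Q (y + y') = Q y + Q y' := by
      have := Q_add (Q := Q) y y'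
      rw [this, g3, add_zero]
    have q2 : Q (y - y') = Q y + Q y' := by
      rw [sub_eq_add_neg]
      have := Q_add (Q := Q) y (-y')
      rw [this, polar_neg_right, g3, QuadraticMap.map_neg, neg_zero, add_zero]
    rw [q1] at b3
    rw [q2] at b4
    simp only [map_add, map_sub, polar_add_left, polar_add_right, polar_sub_left, polar_sub_right] at b3 b4
    have h5 : 2 * Q y' * polar Q y (T x) = 0 := by linear_combination 2 * b1 - b3 - b4
    rcases mul_eq_zero.1 h5 with h5 | h5
    · exact absurd ((mul_eq_zero.1 h5).resolve_left h2) (hQ0 y' g1 g2 hy0)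
    · exact h5
  obtain ⟨c, hc⟩ : ∃ c, c = polar Q u' (T u) := ⟨_, rfl⟩
  have hf : ∀ v, polar Q v (T v) = 2 * c * Q v := by
    intro v
    obtain ⟨y, hy⟩ : ∃ y, y = LieClassical.OrthTrans.proj Q u u' v := ⟨_, rfl⟩
    have h1 : polar Q u y = 0 := by rw [hy]; exact polar_proj_left hyp v
    have h3 : polar Q u' y = 0 := by rw [hy]; exact polar_proj_right hyp v
    have h1' : polar Q y u = 0 := by rw [polar_comm]; exact h1
    have h3' : polar Q y u' = 0 := by rw [polar_comm]; exact h3
    have e : v = y + (polar Q u' v • u + polar Q u v • u') := by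
      rw [hy, LieClassical.OrthTrans.proj]; abel
    have a0 := (key u u' y hyp h1 h3).1
    have a1 := hM u u' y hyp hQ0 h1 h3
    have a2 := hM u' u y hyp.symm (fun y h h' => hQ0 y h' h) h3 h1
    have a3 := hT u hyp.left
    have a4 := hT u' hyp.right
    have s1 : polar Q u (T u') = polar Q u' (T u) := by rw [← hsym, polar_comm]
    have s2 : polar Q u (T y) = polar Q y (T u) := by rw [← hsym, polar_comm]
    have s3 : polar Q u' (T y) = polar Q y (T u') := by rw [← hsym, polar_comm]
    rw [e]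
    generalize polar Q u' v = a at *
    generalize polar Q u v = b at *
    rw [Q_add, Q_add, QuadraticMap.map_smul, QuadraticMap.map_smul, hyp.left, hyp.right]
    simp only [map_add, map_smul, polar_add_left, polar_add_right, polar_smul_left, polar_smul_right,
      smul_eq_mul, a0, a1, a2, a3, a4, s1, s2, s3, h1', h3', hyp.pair, ← hc]
    ring
  refine ⟨c, fun v => ?_⟩
  rw [← sub_eq_zero]
  refine hQ _ fun v' => ?_
  rw [polar_sub_left, polar_smul_left, sub_eq_zero, smul_eq_mul]
  have b1 := hf (v + v')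
  have b2 := hf v
  have b3 := hf v'
  have s1 : polar Q v (T v') = polar Q (T v) v' := (hsym v v').symm
  have s2 : polar Q v' (T v) = polar Q (T v) v' := polar_comm Q _ _
  rw [Q_add] at b1
  simp only [map_add, polar_add_left, polar_add_right, s1, s2] at b1
  have h5 : 2 * (polar Q (T v) v' - c * polar Q v v') = 0 := by linear_combination b1 - b2 - b3
  exact sub_eq_zero.1 ((mul_eq_zero.1 h5).resolve_left h2)

end one

section two

variable {F : Type*} {U : Type*} {W : Type*} {V : Type*} [Field F] [AddCommGroup U] [Module F U]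
  [AddCommGroup W] [Module F W] [AddCommGroup V] [Module F V]
  {t : U →ₗ[F] W →ₗ[F] V} {QU : QuadraticForm F U} {QW : QuadraticForm F W} {Q : QuadraticForm F V}
  {X : Subgroup (V ≃ₗ[F] V)}

/-- `cj k` as a linear map -/
def cjL (k : U ≃ₗ[F] U) : Module.End F U →ₗ[F] Module.End F U where
  toFun := cj k
  map_add' := cj_add' k
  map_smul' := fun c a => cj_smul' k c a

/-- The additive group of the parameters. -/
def radGp (S : TSt t QU QW Q) (X : Subgroup (V ≃ₗ[F] V)) (w : W) : AddSubgroup (W →ₗ[F] U →ₗ[F] U) where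
  carrier := {τ | InR t QW X w τ}
  zero_mem' := ⟨1, X.one_mem, fun u => rfl, fun u z _ => by simp⟩
  neg_mem' := by
    intro τ h
    have h0 : InR t QW X w (0 : W →ₗ[F] U →ₗ[F] U) := ⟨1, X.one_mem, fun u => rfl, fun u z _ => by simp⟩
    have := S.inR_sub h0 h
    rwa [zero_sub] at this
  add_mem' := by
    intro τ τ' h h'
    have h0 : InR t QW X w (0 : W →ₗ[F] U →ₗ[F] U) := ⟨1, X.one_mem, fun u => rfl, fun u z _ => by simp⟩
    have := S.inR_sub h (S.inR_sub h0 h')
    rwa [zero_sub, sub_neg_eq_add] at this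

theorem mem_radGp (S : TSt t QU QW Q) {w : W} {τ : W →ₗ[F] U →ₗ[F] U} :
    τ ∈ radGp S X w ↔ InR t QW X w τ := Iff.rfl

/-- The parameter `ω τ ω`. -/
theorem inR_om [FiniteDimensional F U] (S : TSt t QU QW Q) (hd : 4 ≤ Module.finrank F U)
    (hU : ∀ (a b : U) (ha : QU a = 0) (hb : polar QU a b = 0), rU S.ten (siegel QU a b ha hb) ∈ X)
    {w : W} {u : U} (hu : QU u = 0) (hu0 : u ≠ 0) :
    ∃ r : F, r ≠ 0 ∧ ∀ τ : W →ₗ[F] U →ₗ[F] U, InR t QW X w τ → ∃ τ' : W →ₗ[F] U →ₗ[F] U,
      InR t QW X w τ' ∧ ∀ b, τ' b = r • (om QU u * (τ b : Module.End F U) * om QU u) := by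
  have h8 : (8 : F) ≠ 0 := by
    have : (8 : F) = 2 * 2 * 2 := by norm_num
    rw [this]
    exact mul_ne_zero (mul_ne_zero S.two S.two) S.two
  obtain ⟨x, y, hx, hy, hxy, hqx, hqy⟩ := exists_two S.two S.ndU hd hu hu0
  refine ⟨8 * QU x * QU y, mul_ne_zero (mul_ne_zero h8 hqx) hqy, fun τ hτ => ?_⟩
  have hneg : ∀ z, polar QU u z = 0 → polar QU u (-z) = 0 := fun z hz => by rw [polar_neg_right, hz, neg_zero]
  have hcj : ∀ (z : U) (hz : polar QU u z = 0), (cjL (siegel QU u z hu hz)) ∘ₗ τ ∈ radGp S X w := by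
    intro z hz
    exact S.inR_cj hτ (hU u z hu hz) fun b => rfl
  have hev : ∀ (z : U) (hz : polar QU u z = 0), ∃ τ' ∈ radGp S X w,
      ∀ b, (τ' b : Module.End F U) = E2 (om QU u) (τ b) (nn QU u z) (QU z) := by
    intro z hz
    refine ⟨_, (radGp S X w).sub_mem ((radGp S X w).add_mem (hcj z hz) (hcj (-z) (hneg z hz)))
      ((radGp S X w).add_mem hτ hτ), fun b => ?_⟩
    rw [← cj_E2 hu hz (hneg z hz)]
    rfl
  obtain ⟨t1, ht1, e1⟩ := hev x hx
  obtain ⟨t2, ht2, e2⟩ := hev y hy
  obtain ⟨t3, ht3, e3⟩ := hev (x + y) (by rw [polar_add_right, hx, hy, add_zero])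
  obtain ⟨t4, ht4, e4⟩ := hev (x - y) (by rw [polar_sub_right, hx, hy, sub_zero])
  have q1 : QU (x + y) = QU x + QU y := by
    have := Q_add (Q := QU) x y
    rw [this, hxy, add_zero]
  have q2 : QU (x - y) = QU x + QU y := by
    rw [sub_eq_add_neg]
    have := Q_add (Q := QU) x (-y)
    rw [this, polar_neg_right, hxy, QuadraticMap.map_neg, neg_zero, add_zero]
  refine ⟨t3 + t4 - (t1 + t1) - (t2 + t2), (radGp S X w).sub_mem ((radGp S X w).sub_mem
    ((radGp S X w).add_mem ht3 ht4) ((radGp S X w).add_mem ht1 ht1)) ((radGp S X w).add_mem ht2 ht2), fun b => ?_⟩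
  rw [← E2_par]
  have f3 := e3 b
  have f4 := e4 b
  rw [nn_add', q1] at f3
  rw [nn_sub', q2] at f4
  rw [← f3, ← f4, ← e1 b, ← e2 b]
  rfl

theorem om_symm (u a b : U) : polar QU (om QU u a) b = polar QU a (om QU u b) := by
  rw [om_apply, om_apply, polar_smul_left, polar_smul_right, polar_comm QU a u, smul_eq_mul, smul_eq_mul, mul_comm]

/-- **Two slots**: the parameters are scalar. -/
theorem tau_scalar_two [FiniteDimensional F U] [FiniteDimensional F W] (S : TSt t QU QW Q) (hle : X ≤ O Q)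
    (hd : 4 ≤ Module.finrank F U)
    (hU4 : ∀ w x : U, w ≠ 0 → QU w = 0 → QU x = 0 → polar QU w x = 0 → ∃ c : F, x = c • w)
    (hW4 : ∀ w x : W, w ≠ 0 → QW w = 0 → QW x = 0 → polar QW w x = 0 → ∃ c : F, x = c • w)
    (hU : ∀ (a b : U) (ha : QU a = 0) (hb : polar QU a b = 0), rU S.ten (siegel QU a b ha hb) ∈ X)
    {u u' : U} (hyp : Hyp QU u u') {w : W} (hw : QW w = 0) (hw0 : w ≠ 0)
    (hsg : ∀ (x : W) (hx : polar QW w x = 0), rW S.ten (siegel QW w x hw hx) ∈ X)
    (hZ : ∀ κ, InZ t QW X w κ → κ = 0) {τ : W →ₗ[F] U →ₗ[F] U} (h : InR t QW X w τ) {y : W}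
    (hy : polar QW w y = 0) : ∃ c : F, ∀ v, τ y v = c • v := by
  refine scalar_of_sing S.two S.ndU hd hU4 hyp (τ y)
    (fun a b => tau_symm' S hle hw hw0 hsg hZ h hy a b) fun v hv => ?_
  by_contra hne
  have hv0 : v ≠ 0 := by
    rintro rfl
    rw [polar_zero_left] at hne
    exact hne rfl
  obtain ⟨r, hr, hrτ⟩ := inR_om (X := X) (w := w) S hd hU hv hv0
  obtain ⟨τ', hτ', e'⟩ := hrτ τ h
  obtain ⟨y0, hy0⟩ := riesz S.ndW (r • ((polarBilin QU v) ∘ₗ (LinearMap.applyₗ v) ∘ₗ τ))
  have hy0' : ∀ b, polar QW y0 b = r * polar QU v (τ b v) := fun b => hy0 b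
  -- `τ' = y0 ⊗ ω`
  have e1 : τ' = (polarBilin QW y0).smulRight (om QU v) := by
    refine LinearMap.ext fun b => LinearMap.ext fun a => ?_
    rw [e', LinearMap.smulRight_apply, polarBilin_apply_apply, LinearMap.smul_apply, LinearMap.smul_apply,
      Module.End.mul_apply, Module.End.mul_apply, hy0', om_apply, om_apply, map_smul, polar_smul_right,
      smul_smul, smul_smul, smul_eq_mul]
    congr 1
    ring
  rw [e1] at hτ'
  obtain ⟨g, hg, hgτ⟩ := h
  have hwy0 : polar QW w y0 = 0 := by
    rw [polar_comm, hy0', S.tau_self hw hw0 hgτ, polar_zero_right, mul_zero]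
  have hq0 : QW y0 ≠ 0 := by
    intro h0
    obtain ⟨c, hc⟩ := hW4 w y0 hw0 hw h0 hwy0
    have h1 := hy0' y
    rw [hc, polar_smul_left, hy, smul_zero] at h1
    exact (mul_ne_zero hr hne) h1.symm
  have hyy : polar QW y0 y0 ≠ 0 := by rw [polar_self']; exact mul_ne_zero S.two hq0
  -- conjugate
  obtain ⟨v', hyp'⟩ := LieClassical.OrthTrans.exists_hyp S.ndU hv hv0
  obtain ⟨z, hz1, hz2, hz3⟩ := exists_nonsing_perp S.ndU (by omega) hyp'
  obtain ⟨k, hk⟩ : ∃ k, k = siegel QU v' z hyp'.right hz2 := ⟨_, rfl⟩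
  have hkX : rU S.ten k ∈ X := by rw [hk]; exact hU _ _ _ _
  have hkO : k ∈ O QU := by rw [hk]; exact siegel_mem_O hyp'.right hz2
  have hkv : k v = v + z - QU z • v' := by
    rw [hk, siegel_apply, hyp'.pair', polar_comm QU z v, hz1]
    module
  have hvk : polar QU v (k v) = - QU z := by
    rw [hkv, polar_sub_right, polar_add_right, polar_smul_right, hyp'.polar_left, hz1, hyp'.pair]
    simp
  have hki : ∀ a, k (k⁻¹ a) = a := fun a => LinearEquiv.apply_symm_apply k a
  have hτ2 : InR t QW X w ((polarBilin QW y0).smulRight (om QU (k v))) := by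
    refine S.inR_cj hτ' hkX fun b => ?_
    refine LinearMap.ext fun a => ?_
    rw [cj_apply, LinearMap.smulRight_apply, LinearMap.smulRight_apply, LinearMap.smul_apply,
      LinearMap.smul_apply, om_apply, om_apply, map_smul, map_smul, ← polar_map hkO v (k⁻¹ a), hki]
  have hcom := tau_commute' S hle hw hw0 hZ hwy0 hwy0 hyy hτ' hτ2 (om_symm v) (om_symm (k v)) (k v)
  have hkv0 : QU (k v) = 0 := by
    have := hkO v
    rw [this, hv]
  rw [om_apply (k v) (k v), polar_self_of_sing hkv0, zero_smul, map_zero, om_apply v (k v), map_smul,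
    om_apply (k v) v, polar_comm QU (k v) v, hvk, smul_smul] at hcom
  have h5 := smul_eq_zero.1 hcom.symm
  rcases h5 with h5 | h5
  · exact hz3 (neg_eq_zero.1 (mul_self_eq_zero.1 h5))
  · rw [h5, polar_zero_right] at hvk
    exact hz3 (neg_eq_zero.1 hvk.symm)

end two

section fin

variable {F : Type*} [Field F] {κ : Type*} [Fintype κ] [DecidableEq κ] {ι : Type*} [Fintype ι] [DecidableEq ι]

/-- **Three slots**: the parameters at nonsingular vectors are scalar. -/
theorem tau_scalar_refl [Finite F] {q : QuadraticForm F (κ → F)} (H : Hyp7 q) (hk : Fintype.card κ = 4)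
    (ht : 3 ≤ Fintype.card ι) {M : Subgroup (((ι → κ) → F) ≃ₗ[F] ((ι → κ) → F))} (hM : Over q M) (hT : Thin q M)
    {i : ι} {w : κ → F} (hw : q w = 0) (hw0 : w ≠ 0)
    {τ : (κ → F) →ₗ[F] (({j // j ≠ i} → κ) → F) →ₗ[F] (({j // j ≠ i} → κ) → F)}
    (h : InR (ten F κ i) q M w τ) {y0 : κ → F} (hy0 : q y0 ≠ 0) (hwy0 : polar q w y0 = 0) :
    ∃ c : F, ∀ u, τ y0 u = c • u := by
  have S := tst (ι := ι) H.two H.nd i
  have hlX : rW S.ten (refl q y0 hy0) ∈ M := by
    rw [← slE_eq_rW]
    exact hM.2 _ (slE_refl_mem_E H hk ht i hy0) (slE_isMono _ _)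
  have hyw : polar q y0 w = 0 := by rw [polar_comm]; exact hwy0
  have hlw : refl q y0 hy0 w = w := by rw [refl_apply, hyw]; simp
  have h1 : InR (ten F κ i) q M w (τ - τ ∘ₗ (refl q y0 hy0 : (κ → F) ≃ₗ[F] (κ → F)).toLinearMap) :=
    S.inR_sub h (S.inR_cjW h hlX (refl_mem_O hy0) hlw (fun z => by rw [refl_inv hy0]; rfl))
  have e : τ - τ ∘ₗ (refl q y0 hy0 : (κ → F) ≃ₗ[F] (κ → F)).toLinearMap =
      (polarBilin q y0).smulRight ((q y0)⁻¹ • τ y0) := by
    refine LinearMap.ext fun z => ?_
    rw [LinearMap.sub_apply, LinearMap.comp_apply, LinearEquiv.coe_coe, refl_apply, map_sub, map_smul,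
      LinearMap.smulRight_apply, polarBilin_apply_apply]
    module
  rw [e] at h1
  have hyy : polar q y0 y0 ≠ 0 := by rw [polar_self']; exact mul_ne_zero H.two hy0
  obtain ⟨c, hc⟩ := pair_scalar H.two H.nd H.three (Or.inl (by omega)) (H.good (by omega)) hM hT hw hw0 hwy0 hwy0
    hyy (fun _ h => h) h1
  refine ⟨q y0 * c, fun u => ?_⟩
  have h6 := LinearMap.congr_fun hc u
  rw [LinearMap.smul_apply, LinearMap.smul_apply, Module.End.one_apply] at h6
  rw [← smul_smul, ← h6, smul_smul, mul_inv_cancel₀ hy0, one_smul]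

/-- One slot: the pure tensors. -/
theorem exists_tp [Subsingleton ι] (l : ι) (a : (ι → κ) → F) : ∃ x : κ → F, a = tp (fun _ : ι => x) := by
  refine ⟨fun b => a (fun _ => b), ?_⟩
  funext b
  rw [tp_apply, Fintype.prod_subsingleton _ l]
  congr 1
  funext j
  rw [Subsingleton.elim j l]

theorem polar_tp_one [Subsingleton ι] {q : QuadraticForm F (κ → F)} (h2 : (2 : F) ≠ 0) (l : ι) (x y : κ → F) :
    polar (QT q ι) (tp (fun _ : ι => x)) (tp (fun _ : ι => y)) = polar q x y := by
  rw [polar_tp h2, Fintype.prod_subsingleton _ l]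

theorem QT_tp_one [Subsingleton ι] {q : QuadraticForm F (κ → F)} (h2 : (2 : F) ≠ 0) (l : ι) (x : κ → F) :
    QT q ι (tp (fun _ : ι => x)) = q x := by
  rw [Q_eq_half h2, polar_tp_one h2 l, ← Q_eq_half h2]

theorem siegel_one [Subsingleton ι] {q : QuadraticForm F (κ → F)} (h2 : (2 : F) ≠ 0) (l : ι)
    (a b : (ι → κ) → F) (ha : QT q ι a = 0) (hb : polar (QT q ι) a b = 0) :
    ∃ (x z : κ → F) (hx : q x = 0) (hz : polar q x z = 0),
      siegel (QT q ι) a b ha hb = slE l (siegel q x z hx hz) := by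
  obtain ⟨x, rfl⟩ := exists_tp l a
  obtain ⟨z, rfl⟩ := exists_tp l b
  have hx : q x = 0 := by rw [← QT_tp_one h2 l]; exact ha
  have hz : polar q x z = 0 := by rw [← polar_tp_one h2 l]; exact hb
  refine ⟨x, z, hx, hz, ?_⟩
  refine LinearEquiv.ext fun v => ?_
  obtain ⟨v, rfl⟩ := exists_tp l v
  have e : ∀ y : κ → F, Function.update (fun _ : ι => v) l y = fun _ => y := by
    intro y
    funext j
    rw [Subsingleton.elim j l, Function.update_self]
  have e2 : ∀ y z : κ → F, tp (fun _ : ι => y + z) = tp (fun _ : ι => y) + tp (fun _ : ι => z) := by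
    intro y z
    rw [← e, tp_update_add, e, e]
  have e3 : ∀ (c : F) (y : κ → F), tp (fun _ : ι => c • y) = c • tp (fun _ : ι => y) := by
    intro c y
    rw [← e, tp_update_smul, e]
  rw [slE_tp, e, siegel_apply, siegel_apply, polar_tp_one h2 l, polar_tp_one h2 l, QT_tp_one h2 l]
  have e4 : v + polar q x v • z - polar q z v • x - (q z * polar q x v) • x =
      v + (polar q x v • z + ((-polar q z v) • x + (-(q z * polar q x v)) • x)) := by module
  rw [e4, e2, e2, e2, e3, e3, e3]
  module

/-- **Task RP4.** -/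
theorem radP_four [Finite F] {q : QuadraticForm F (κ → F)} (H : Hyp7 q) (hk : Fintype.card κ = 4)
    (ht : 2 ≤ Fintype.card ι) {M : Subgroup (((ι → κ) → F) ≃ₗ[F] ((ι → κ) → F))} (hM : Over q M)
    (hT : Thin q M) : RadP q M := by
  intro i w hw hw0 g hg τ hgτ
  have S := tst (ι := ι) H.two H.nd i
  have hG := H.good ht (ι := ι)
  have hsg : ∀ (x : κ → F) (hx : polar q w x = 0), rW S.ten (siegel q w x hw hx) ∈ M := fun x hx => by
    have := hM.siegel_mem H.two hG i hw hx
    rwa [slE_eq_rW] at this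
  have hZ : ∀ δ, InZ (ten F κ i) q M w δ → δ = 0 := fun δ hδ => hT.inZ H.two H.nd i hw hw0 hδ
  have hIn : InR (ten F κ i) q M w τ := ⟨g, hg, hgτ⟩
  have hscal : ∀ y, polar q w y = 0 → ∃ c : F, ∀ u, τ y u = c • u := by
    intro y hy
    by_cases hqy : q y = 0
    · obtain ⟨c, rfl⟩ := H.four hk w y hw0 hw hqy hy
      refine ⟨0, fun u => ?_⟩
      rw [map_smul, LinearMap.smul_apply, S.tau_self hw hw0 hgτ]
      simp
    · by_cases h3 : 3 ≤ Fintype.card ι
      · exact tau_scalar_refl H hk h3 hM hT hw hw0 hIn hqy hy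
      · have hc : Fintype.card {j // j ≠ i} = 1 := by
          have h1 : Fintype.card {j // j ≠ i} = Fintype.card ι - 1 := by
            rw [Fintype.card_subtype_compl, Fintype.card_subtype_eq]
          omega
        have hss : Subsingleton {j // j ≠ i} := Fintype.card_le_one_iff_subsingleton.1 hc.le
        obtain ⟨l⟩ : Nonempty {j // j ≠ i} := Fintype.card_pos_iff.1 (by omega)
        obtain ⟨w', hyp⟩ := LieClassical.OrthTrans.exists_hyp H.nd hw hw0
        have hfr : Module.finrank F (({j // j ≠ i} → κ) → F) = 4 := by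
          rw [Module.finrank_fintype_fun_eq_card, Fintype.card_fun, hk, hc, pow_one]
        refine tau_scalar_two S hM.le_O hfr.ge ?_ (H.four hk) ?_ (u := tp fun _ => w) (u' := tp fun _ => w')
          ?_ hw hw0 hsg hZ hIn hy
        · intro a b ha0 ha hb hab
          obtain ⟨x, rfl⟩ := exists_tp l a
          obtain ⟨z, rfl⟩ := exists_tp l b
          have hx : q x = 0 := by rw [← QT_tp_one H.two l]; exact ha
          have hz : q z = 0 := by rw [← QT_tp_one H.two l]; exact hb
          have hxz : polar q x z = 0 := by rw [← polar_tp_one H.two l]; exact hab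
          have hx0 : x ≠ 0 := by
            rintro rfl
            apply ha0
            funext b
            rw [tp_apply]
            exact Finset.prod_eq_zero (Finset.mem_univ l) rfl
          obtain ⟨c, rfl⟩ := H.four hk x z hx0 hx hz hxz
          refine ⟨c, ?_⟩
          rw [tp_smul_all (fun _ => x) (fun _ => c), Fintype.prod_subsingleton _ l]
        · intro a b ha hb
          obtain ⟨x, z, hx, hz, e⟩ := siegel_one H.two l a b ha hb
          rw [e, ← slE_sub]
          exact hM.siegel_mem H.two hG (l : ι) hx hz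
        · exact ⟨by rw [QT_tp_one H.two l]; exact hyp.left, by rw [QT_tp_one H.two l]; exact hyp.right,
            by rw [polar_tp_one H.two l]; exact hyp.pair⟩
  have : Nontrivial (({j // j ≠ i} → κ) → F) := ⟨tp (fun _ => w), 0, tp_ne_zero fun _ => hw0⟩
  obtain ⟨x, hx, h3⟩ := eq_siegel S hM.le_O (nondeg_QT H.two H.nd) hw hw0 hg hgτ hsg hZ hscal
  exact ⟨x, hx, by rw [slE_eq_rW]; exact h3⟩

theorem refl_mul_mem_comm {V : Type*} [AddCommGroup V] [Module F V] {Q : QuadraticForm F V} (h2 : (2 : F) ≠ 0)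
    {x y : V} (hx : Q x ≠ 0) (hy : Q y ≠ 0) (h : Q x = Q y) (hxy : polar Q x y = 0) :
    refl Q x hx * refl Q y hy ∈ ⁅O Q, O Q⁆ := by
  have hd : Q (y - x) ≠ 0 := by
    rw [sub_eq_add_neg, Q_add, QuadraticMap.map_neg, polar_neg_right, polar_comm, hxy, neg_zero, add_zero, h,
      ← two_mul]
    exact mul_ne_zero h2 hy
  have h1 : refl Q (y - x) hd x = y := by
    have h0 := refl_sub_apply h hd
    have h00 := LinearEquiv.congr_fun (refl_mul_self hd) y
    have h01 : refl Q (y - x) hd (refl Q (y - x) hd y) = y := h00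
    rwa [h0] at h01
  have h3 : refl Q y hy = refl Q (y - x) hd * refl Q x hx * (refl Q (y - x) hd)⁻¹ := by
    have h3 : Q (refl Q (y - x) hd x) ≠ 0 := by rw [h1]; exact hy
    rw [refl_conj (refl_mem_O hd) hx h3]
    ext v
    rw [refl_apply, refl_apply, h1]
  rw [h3]
  have h4 : refl Q x hx * (refl Q (y - x) hd * refl Q x hx * (refl Q (y - x) hd)⁻¹) =
      ⁅refl Q x hx, refl Q (y - x) hd⁆ := by
    rw [commutatorElement_def, refl_inv hx]
    group
  rw [h4]
  exact Subgroup.commutator_mem_commutator (refl_mem_O hx) (refl_mem_O hd)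

/-- The parameters of `c = (α ⊗ 1) r` are scalar, given a suitable element of the slot. -/
theorem sp_aux {q : QuadraticForm F (κ → F)} (H : Hyp7 q) [Finite F] (ht : 2 ≤ Fintype.card ι)
    {M : Subgroup (((ι → κ) → F) ≃ₗ[F] ((ι → κ) → F))} (hM : Over q M) (hrad : RadP q M) {j : ι} {w : κ → F}
    (hw0 : w ≠ 0) (hw : q w = 0) {c : ((ι → κ) → F) ≃ₗ[F] ((ι → κ) → F)} (hc : c ∈ M)
    {α : (({l // l ≠ j} → κ) → F) ≃ₗ[F] (({l // l ≠ j} → κ) → F)} {r : ((ι → κ) → F) ≃ₗ[F] ((ι → κ) → F)}
    {τ : (κ → F) →ₗ[F] (({l // l ≠ j} → κ) → F) →ₗ[F] (({l // l ≠ j} → κ) → F)}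
    (hcr : c = rU (isTen F κ j) α * r) (hr : IsR (ten F κ j) q w r τ) {h : (κ → F) ≃ₗ[F] (κ → F)}
    (hh : h ∈ ⁅O q, O q⁆) (hO : h ∈ O q) {c0 : F} (hc0 : c0 ≠ 0) (hhw : h w = c0 • w) {z : κ → F}
    (hz : polar q w z = 0) {e : F} (hhz : h⁻¹ z = e • z) (hne : 1 - c0 * e ≠ 0) :
    ∃ a : F, ∀ u, τ z u = a • u := by
  have S := tst (ι := ι) H.two H.nd j
  have hhX : rW S.ten h ∈ M := by
    rw [← slE_eq_rW]
    exact hM.2 _ (slE_comm_mem_E H.two (H.good ht) j hh) (slE_isMono _ _)
  obtain ⟨a, ha⟩ := theta_scalar (X := M) S hw hw0 (fun g hg τ hgτ => by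
      obtain ⟨x, hx, hgx⟩ := hrad j w hw hw0 g hg τ hgτ
      exact ⟨x, hx, by rw [hgx, slE_eq_rW]⟩) hc hcr hr hhX hO hc0 hhw z hz
  refine ⟨(1 - c0 * e)⁻¹ * a, fun u => ?_⟩
  have h1 := ha u
  rw [hhz, map_smul, LinearMap.smul_apply, smul_smul] at h1
  rw [← smul_smul, ← h1]
  have h3 : τ z u - (c0 * e) • τ z u = (1 - c0 * e) • τ z u := by module
  rw [h3, smul_smul, inv_mul_cancel₀ hne, one_smul]

theorem sp_four [Finite F] {q : QuadraticForm F (κ → F)} (H : Hyp7 q) (hk : Fintype.card κ = 4)
    (ht : 2 ≤ Fintype.card ι) {M : Subgroup (((ι → κ) → F) ≃ₗ[F] ((ι → κ) → F))} (hM : Over q M)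
    (hT : Thin q M) (hrad : RadP q M) : SP q M := by
  intro j w hw0 hw c hc α r τ hcr hr z hz
  have S := tst (ι := ι) H.two H.nd j
  obtain ⟨w', hyp⟩ := LieClassical.OrthTrans.exists_hyp H.nd hw hw0
  suffices hY : ∀ y, polar q w y = 0 → polar q w' y = 0 → ∃ a : F, ∀ u, τ y u = a • u by
    have e : z = LieClassical.OrthTrans.proj q w w' z + polar q w' z • w := by
      rw [LieClassical.OrthTrans.proj, hz]; module
    obtain ⟨a, ha⟩ := hY _ (polar_proj_left hyp z) (polar_proj_right hyp z)
    refine ⟨a, fun u => ?_⟩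
    rw [e, map_add, map_smul, LinearMap.add_apply, LinearMap.smul_apply, ha, S.tau_self hw hw0 hr]
    simp
  intro y h1 h3
  by_cases hF : ∃ c : F, c ≠ 0 ∧ c * c ≠ 1
  · obtain ⟨c', hc', hcc⟩ := hF
    obtain ⟨h, hh, hO, hhw, -, hfix⟩ := exists_torus hyp hc'
    have hhy : h⁻¹ y = (1 : F) • y := by
      have : h⁻¹ (h y) = y := LinearEquiv.symm_apply_apply h y
      rw [hfix y h1 h3] at this
      rw [this, one_smul]
    refine sp_aux H ht hM hrad hw0 hw hc hcr hr hh hO (mul_ne_zero hc' hc') hhw h1 hhy ?_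
    rw [mul_one]
    intro h0
    exact hcc (by linear_combination -h0)
  · push Not at hF
    have hQ0 : ∀ y, polar q w y = 0 → polar q w' y = 0 → y ≠ 0 → q y ≠ 0 := by
      intro y h1 h3 h0 hq
      obtain ⟨c, rfl⟩ := H.four hk w y hyp.left_ne hyp.left hq h1
      rw [polar_smul_right, hyp.pair', smul_eq_mul, mul_one] at h3
      rw [h3, zero_smul] at h0
      exact h0 rfl
    by_cases hy0 : y = 0
    · refine ⟨0, fun u => ?_⟩
      rw [hy0, map_zero, LinearMap.zero_apply, zero_smul]
    obtain ⟨y', hy0', hy'⟩ := exists_perp_ne (Q := q) ![w, w', y]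
      (by rw [Module.finrank_fintype_fun_eq_card]; omega)
    have g1 : polar q w y' = 0 := hy' 0
    have g2 : polar q w' y' = 0 := hy' 1
    have g3 : polar q y y' = 0 := hy' 2
    have g4 : polar q y' y = 0 := by rw [polar_comm]; exact g3
    have n1 := hQ0 y h1 h3 hy0
    have n2 := hQ0 y' g1 g2 hy0'
    have hsum : q (y + y') ≠ 0 := by
      refine hQ0 _ (by rw [polar_add_right, h1, g1, add_zero]) (by rw [polar_add_right, h3, g2, add_zero]) ?_
      intro h0
      have h4 : polar q y (y + y') = 0 := by rw [h0, polar_zero_right]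
      rw [polar_add_right, g3, add_zero, polar_self'] at h4
      exact (mul_ne_zero H.two n1) h4
    have hqq : q y = q y' := by
      have h4 : (q y - q y') * (q y + q y') = 0 := by linear_combination hF _ n1 - hF _ n2
      rcases mul_eq_zero.1 h4 with h4 | h4
      · exact sub_eq_zero.1 h4
      · exfalso
        apply hsum
        have := Q_add (Q := q) y y'
        rw [this, g3, add_zero, h4]
    have hh := refl_mul_mem_comm H.two n1 n2 hqq g3
    have hO : refl q y n1 * refl q y' n2 ∈ O q := (O q).mul_mem (refl_mem_O n1) (refl_mem_O n2)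
    have g5 : polar q y w = 0 := by rw [polar_comm]; exact h1
    have g6 : polar q y' w = 0 := by rw [polar_comm]; exact g1
    have hhw : (refl q y n1 * refl q y' n2) w = (1 : F) • w := by
      rw [LinearEquiv.mul_apply, refl_apply n2, g6, mul_zero, zero_smul, sub_zero, refl_apply n1, g5, mul_zero,
        zero_smul, sub_zero, one_smul]
    have hhy : (refl q y n1 * refl q y' n2)⁻¹ y = (-1 : F) • y := by
      rw [mul_inv_rev, refl_inv, refl_inv, LinearEquiv.mul_apply, refl_apply n1, polar_self']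
      have : (q y)⁻¹ * (2 * q y) = 2 := by
        rw [mul_comm 2, ← mul_assoc, inv_mul_cancel₀ n1, one_mul]
      rw [this]
      have e : y - (2 : F) • y = (-1 : F) • y := by module
      rw [e, map_smul, refl_apply, g4, mul_zero, zero_smul, sub_zero]
    refine sp_aux H ht hM hrad hw0 hw hc hcr hr hh hO one_ne_zero hhw h1 hhy ?_
    rw [one_mul, sub_neg_eq_add, one_add_one_eq_two]
    exact H.two

end fin

end Cfsg.Agent.H829.C7
end
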